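import Cfsg.Agent.BinInv.PSU
import Cfsg.Agent.PSU3Id.ModelB

/-!
# Binary actions of `PSU₃(q)`, `q` even: centres of Sylow subgroups
-/

set_option autoImplicit false
set_option linter.unusedSectionVars false

namespace Cfsg.Agent.BinInv

open Cfsg Cfsg.Agent.Uni Cfsg.Agent.AutPSU Cfsg.Agent.H38.PSU3 Cfsg.Agent.PSU3Id.MG
open Cfsg.Agent.Suz (Bin mem_cen)
open scoped Pointwise

section transport

variable {G G' : Type*} [Group G] [Group G'] [Finite G] [Finite G']

/-- Sylow subgroups -/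
def IsSy (H : Subgroup G) : Prop := ∃ P : Sylow 2 G, H = P

/-- centres of Sylow subgroups -/
def IsZSy (H : Subgroup G) : Prop :=
  ∃ P : Sylow 2 G, H = (Subgroup.center (P : Subgroup G)).map (P : Subgroup G).subtype

theorem exists_comap_sylow (e : G ≃* G') (P : Sylow 2 G') :
    ∃ Q : Sylow 2 G, ∀ x, x ∈ Q ↔ e x ∈ P :=
  ⟨P.comapOfInjective e.toMonoidHom e.injective (by
    intro x _
    exact ⟨e.symm x, e.apply_symm_apply x⟩), fun _ => Iff.rfl⟩

theorem IsSy.comap (e : G ≃* G') {H : Subgroup G'} (h : IsSy H) : IsSy (H.comap e.toMonoidHom) := by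
  obtain ⟨P, rfl⟩ := h
  obtain ⟨Q, hQ⟩ := exists_comap_sylow e P
  refine ⟨Q, ?_⟩
  ext x
  exact (hQ x).symm

theorem IsZSy.comap (e : G ≃* G') {H : Subgroup G'} (h : IsZSy H) : IsZSy (H.comap e.toMonoidHom) := by
  obtain ⟨P, rfl⟩ := h
  obtain ⟨Q, hQ⟩ := exists_comap_sylow e P
  refine ⟨Q, ?_⟩
  ext x
  rw [Subgroup.mem_comap, mem_cen, mem_cen]
  change (e x ∈ P ∧ ∀ y ∈ P, y * e x = e x * y) ↔ (x ∈ Q ∧ ∀ y ∈ Q, y * x = x * y)
  constructor
  · rintro ⟨h1, h2⟩
    refine ⟨(hQ x).2 h1, fun y hy => ?_⟩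
    have := h2 (e y) ((hQ y).1 hy)
    rw [← map_mul, ← map_mul] at this
    exact e.injective this
  · rintro ⟨h1, h2⟩
    refine ⟨(hQ x).1 h1, fun y hy => ?_⟩
    obtain ⟨y, rfl⟩ := e.surjective y
    rw [← map_mul, ← map_mul, h2 y ((hQ y).2 hy)]

theorem comap_symm_comap (e : G ≃* G') (H : Subgroup G) :
    (H.comap e.symm.toMonoidHom).comap e.toMonoidHom = H := by
  ext x
  change e.symm (e x) ∈ H ↔ x ∈ H
  rw [e.symm_apply_apply]

theorem isSy_iff (e : G ≃* G') (H : Subgroup G) : IsSy (H.comap e.symm.toMonoidHom) ↔ IsSy H := by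
  constructor
  · intro h
    have := h.comap e
    rwa [comap_symm_comap] at this
  · intro h
    exact h.comap e.symm

theorem isZSy_iff (e : G ≃* G') (H : Subgroup G) : IsZSy (H.comap e.symm.toMonoidHom) ↔ IsZSy H := by
  constructor
  · intro h
    have := h.comap e
    rwa [comap_symm_comap] at this
  · intro h
    exact h.comap e.symm

theorem comap_ne_top (e : G ≃* G') {H : Subgroup G} (h : H ≠ ⊤) : H.comap e.symm.toMonoidHom ≠ ⊤ := by
  intro h0
  apply h
  rw [← comap_symm_comap e H, h0]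
  exact Subgroup.comap_top _

theorem card_comap (e : G ≃* G') (H : Subgroup G) : Nat.card (H.comap e.symm.toMonoidHom) = Nat.card H := by
  apply Nat.card_congr
  refine ⟨fun x => ⟨e.symm x.1, x.2⟩, fun x => ⟨e x.1, ?_⟩, ?_, ?_⟩
  · change e.symm (e x.1) ∈ H
    rw [e.symm_apply_apply]; exact x.2
  · intro x
    exact Subtype.ext (e.apply_symm_apply x.1)
  · intro x
    exact Subtype.ext (e.symm_apply_apply x.1)

end transport

variable {F : Type*} [Field F] [Fintype F] {q : ℕ}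

section

variable (hF : Fintype.card F = q ^ 2)
include hF

theorem CP_XX [CharP F 2] {u : Fin 3 → F} (hu : Iso q u) : CP (XX q u) := by
  intro t ht ht1 htt z hzz hc
  by_cases hz1 : z = 1
  · rw [hz1]; exact Subgroup.one_mem _
  obtain ⟨w, hw, hzw⟩ := exists_XX hF hz1 hzz
  obtain ⟨g, s, hg, rfl⟩ := (mem_XX hF hu).1 ht
  obtain ⟨k, r, hk, rfl⟩ := (mem_XX hF hw).1 hzw
  have h1 : toPSU 3 F q (k * g * k⁻¹) = toPSU 3 F q g := by
    rw [map_mul, map_mul, ← hc, map_inv, mul_assoc, mul_inv_cancel, mul_one]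
  have h2 := hg.conj k
  rw [act_zero] at h2
  have h3 := eich_eq_of_toPSU hF le_rfl h2 hg h1
  rw [h3] at h2
  have hg1 : g ≠ 1 := by rintro rfl; exact ht1 (map_one _)
  obtain ⟨c, hc0, hcu⟩ := par_of_eich hF hu.1 hg h2 hg1
  rw [(isEich_zero_iff hF _ _ _).1 hk] at hcu
  have h4 : hermForm 3 F q u w = 0 := by
    by_contra h0
    have hr : r ≠ 0 := by
      rintro rfl
      apply hz1
      have : k = 1 := by
        apply act_ext
        intro x
        rw [(isEich_zero_iff hF _ _ _).1 hk, zero_mul, zero_smul, add_zero, act_one]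
      rw [this, map_one]
    have h5 : (r * hermForm 3 F q u w) • w = (c - 1) • u := by
      have : (r * hermForm 3 F q u w) • w = (u + (r * hermForm 3 F q u w) • w) - u := by abel
      rw [this, hcu]; module
    have h6 : (r * hermForm 3 F q u w) * (hermForm 3 F q u w) ^ q = 0 := by
      have h7 : hermForm 3 F q ((r * hermForm 3 F q u w) • w) u = hermForm 3 F q ((c - 1) • u) u := by rw [h5]
      have h8 : hermForm 3 F q w u = (hermForm 3 F q u w) ^ q := (hermForm_symm hF _ _).symm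
      rw [hermForm_smul_left, hermForm_smul_left, hu.2, mul_zero, h8] at h7
      exact h7
    exact mul_ne_zero (mul_ne_zero hr h0) (pow_ne_zero _ h0) h6
  rw [XX_eq_of_par hF (par_of_perp hF hu hw h4)]
  exact hzw

/-- transvection groups are the centres of the Sylow subgroups -/
theorem center_eq_XX [CharP F 2] {m : ℕ} (hm : 2 ≤ m) (hq : q = 2 ^ m) {P : Sylow 2 (PSU 3 F q)}
    {u : Fin 3 → F} (h : PSU3Id.Model.IsP hF P u) :
    (Subgroup.center (P : Subgroup (PSU 3 F q))).map (P : Subgroup (PSU 3 F q)).subtype = XX q u := by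
  obtain ⟨hu, hP⟩ := h
  have hXP : ∀ x ∈ XX q u, x ∈ P := by
    intro x hx
    obtain ⟨g, s, hg, rfl⟩ := (mem_XX hF hu).1 hx
    exact (hP _).2 ⟨g, ⟨0, s, hermForm_zero_right hF u, by
      rw [skew_of_isEich hF hu.1 hu.2 hg, hermForm_zero_left]; ring, hg⟩, rfl⟩
  have h1 : XX q u ≤ (Subgroup.center (P : Subgroup (PSU 3 F q))).map (P : Subgroup (PSU 3 F q)).subtype := by
    intro x hx
    rw [mem_cen]
    refine ⟨hXP x hx, fun y hy => ?_⟩
    obtain ⟨k, s, hk, rfl⟩ := (mem_XX hF hu).1 hx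
    obtain ⟨g, hg, rfl⟩ := (hP y).1 hy
    have h2 := hk.conj g
    rw [act_zero, RR_fix hF hu hg] at h2
    have h3 := h2.unique hk
    rw [← map_mul, ← map_mul]
    congr 1
    exact mul_inv_eq_iff_eq_mul.1 h3
  symm
  apply Subgroup.eq_of_le_of_card_ge h1
  rw [Subgroup.card_map_of_injective (Subgroup.subtype_injective _)]
  refine ((H38.PSU3.main hF hm hq P).2.1.trans (PSU3Id.Model.cardE hF hm hq P).symm).le.trans ?_
  apply Nat.card_le_card_of_injective (fun x : {x : (P : Subgroup (PSU 3 F q)) // x * x = 1} =>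
    (⟨x.1.1, by
      obtain ⟨g, hg, hgx⟩ := (hP x.1.1).1 x.1.2
      have hgu := RR_fix hF hu hg
      have h1 : g * g = 1 := by
        apply eq_of_toPSU hF hu (by rw [act_mul, hgu, hgu]) (act_one u)
        rw [map_mul, hgx, map_one]
        exact congrArg Subtype.val x.2
      obtain ⟨s, hs⟩ := eich_of_sq hF hu hg h1
      exact (mem_XX hF hu).2 ⟨g, s, hs, hgx⟩⟩ : XX q u))
  intro x y hxy
  have : x.1.1 = y.1.1 := congrArg (fun z : XX q u => (z : PSU 3 F q)) hxy
  exact Subtype.ext (Subtype.ext this)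

theorem isZSy_XX [CharP F 2] {m : ℕ} (hm : 2 ≤ m) (hq : q = 2 ^ m) {u : Fin 3 → F} (hu : Iso q u) :
    IsZSy (XX q u) := by
  have hp : Fact (Nat.Prime 2) := ⟨Nat.prime_two⟩
  obtain ⟨P⟩ : Nonempty (Sylow 2 (PSU 3 F q)) := inferInstance
  obtain ⟨w, hw⟩ := PSU3Id.Model.exists_isP hF P
  obtain ⟨a, ha⟩ := trans_iso hF hw.1 hu
  have h1 := hw.smul a
  rw [ha] at h1
  exact ⟨_, (center_eq_XX hF hm hq h1).symm⟩

theorem exists_of_isZSy [CharP F 2] {m : ℕ} (hm : 2 ≤ m) (hq : q = 2 ^ m) {H : Subgroup (PSU 3 F q)}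
    (h : IsZSy H) : ∃ u, Iso q u ∧ H = XX q u := by
  obtain ⟨P, rfl⟩ := h
  obtain ⟨w, hw⟩ := PSU3Id.Model.exists_isP hF P
  exact ⟨w, hw.1, center_eq_XX hF hm hq hw⟩

/-- the case of `PSU₃(q)` -/
theorem psu_final [CharP F 2] {m : ℕ} (hm : 2 ≤ m) (hq : q = 2 ^ m) {G : Type*} [Group G] [Finite G]
    (hone : ∀ s s' : G, s ≠ 1 → s * s = 1 → s' ≠ 1 → s' * s' = 1 → ∃ c : G, c * s * c⁻¹ = s')
    (e : G ≃* PSU 3 F q) (H : Subgroup G) (hH : H ≠ ⊤) (heven : Even (Nat.card H)) :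
    Bin G (G ⧸ H) ↔ IsZSy H := by
  have hq3 : 3 ≤ q := by
    rw [hq]
    calc 3 ≤ 2 ^ 2 := by norm_num
      _ ≤ 2 ^ m := Nat.pow_le_pow_right (by norm_num) hm
  have hs : Function.Surjective e.symm.toMonoidHom := e.symm.surjective
  constructor
  · intro hB
    have h1 := (CP_of_bin hone hB).comap_equiv e.symm
    have h2 := (KP_of_bin hB).comap e.symm.toMonoidHom hs
    obtain ⟨u, hu, hHu⟩ := psu_main hF hq3 (comap_ne_top e hH) (by rw [card_comap]; exact heven) h1 h2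
    rw [← isZSy_iff e, hHu]
    exact isZSy_XX hF hm hq hu
  · intro h
    rw [← isZSy_iff e] at h
    obtain ⟨u, hu, hHu⟩ := exists_of_isZSy hF hm hq h
    have hH' : H = (XX q u).comap e.toMonoidHom := by rw [← hHu, comap_symm_comap]
    apply bin_of_CP
    · intro x hx
      rw [hH'] at hx
      have h3 : e x * e x = 1 := sq_of_mem_XX hF hu hx
      rw [← map_mul, map_eq_one_iff e e.injective] at h3
      exact h3
    · rw [hH']
      exact (CP_XX hF hu).comap_equiv e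

end

end Cfsg.Agent.BinInv
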