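import Cfsg.Agent.BinInv.PointC
import Cfsg.Agent.BinInv.SE

/-!
# Binary actions of `PSU₃(q)`, `q` even
-/

set_option autoImplicit false
set_option linter.unusedSectionVars false

namespace Cfsg.Agent.BinInv

open Cfsg Cfsg.Agent.Uni Cfsg.Agent.AutPSU Cfsg.Agent.H38.PSU3 Cfsg.Agent.PSU3Id.MG

variable {F : Type*} [Field F] [Fintype F] {q : ℕ}

section

variable (hF : Fintype.card F = q ^ 2)
include hF

/-- `SU₂(q)` is generated by transvections -/
theorem plane_gen [CharP F 2] {u v z : Fin 3 → F} (h : Fr q u v z) {A : Subgroup (SU 3 F q)}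
    (hA : ∀ w, Iso q w → w ∈ Submodule.span F {u, v} → ∀ (g : SU 3 F q) (s : F), IsEich g w 0 s → g ∈ A)
    {g : SU 3 F q} (hgz : act g z = z) : g ∈ A := by
  have htwo : (2 : F) = 0 := CharTwo.two_eq_zero
  have hu : Iso q u := ⟨h.hyp.left_ne, h.hyp.1⟩
  have swap : ∀ c : F, c ≠ 0 → c ^ q = c → ∃ t ∈ A, act t u = c • v ∧ act t v = c⁻¹ • u ∧ act t z = z := by
    intro c hc hcq
    have hiso : Iso q (u + c • v) := by
      refine ⟨?_, ?_⟩
      · intro h0
        have h4 : hermForm 3 F q (u + c • v) v = 0 := by rw [h0, hermForm_zero_left]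
        rw [hermForm_add_left, hermForm_smul_left, h.hyp.2.2, h.hyp.2.1, mul_zero, add_zero] at h4
        exact one_ne_zero h4
      · simp only [hermForm_add_left, hermForm_add_right hF, hermForm_smul_left, hermForm_smul_right, h.hyp.1,
          h.hyp.2.1, h.hyp.2.2, h.vu hF, hcq]
        linear_combination c * htwo
    obtain ⟨t, -, ht⟩ := exists_transv hF (a := c⁻¹) hiso.2 (by
      rw [inv_pow, hcq]; linear_combination c⁻¹ * htwo)
    refine ⟨t, hA _ hiso (Submodule.mem_span_pair.2 ⟨1, c, by rw [one_smul]⟩) t c⁻¹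
      ((isEich_zero_iff hF _ _ _).2 ht), ?_, ?_, ?_⟩
    · rw [ht, hermForm_add_right hF, hermForm_smul_right, h.hyp.1, h.hyp.2.2, hcq, zero_add, mul_one,
        inv_mul_cancel₀ hc, one_smul]
      have : u + (u + c • v) = (2 : F) • u + c • v := by module
      rw [this, htwo, zero_smul, zero_add]
    · rw [ht, hermForm_add_right hF, hermForm_smul_right, h.hyp.2.1, h.vu hF, mul_zero, add_zero, mul_one,
        smul_add, smul_smul, inv_mul_cancel₀ hc]
      have : v + (c⁻¹ • u + (1 : F) • v) = (2 : F) • v + c⁻¹ • u := by module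
      rw [this, htwo, zero_smul, zero_add]
    · rw [ht, hermForm_add_right hF, hermForm_smul_right, h.zu, h.zv]; simp
  have hmu : u ∈ Submodule.span F {u, v} := Submodule.subset_span (by simp)
  have tor : ∀ k : SU 3 F q, act k z = z → (∃ a : F, act k u = a • u) → k ∈ A := by
    rintro k hkz ⟨a, hku⟩
    obtain ⟨ha, x, -, -, hkz', -⟩ := borel hF h hku
    rw [hkz] at hkz'
    have h1 : a ^ q / a = 1 := by
      have h2 : hermForm 3 F q z z = hermForm 3 F q ((a ^ q / a) • z + x • u) z := by rw [← hkz']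
      rw [hermForm_add_left, hermForm_smul_left, hermForm_smul_left, h.zz, h.uz hF, mul_zero, add_zero,
        mul_one] at h2
      exact h2.symm
    have haq : a ^ q = a := by rwa [div_eq_one_iff_eq ha] at h1
    obtain ⟨t1, ht1, t1u, -, t1z⟩ := swap a ha haq
    obtain ⟨t2, ht2, -, t2v, t2z⟩ := swap 1 one_ne_zero (one_pow _)
    rw [inv_one, one_smul] at t2v
    have hTu : act (t2 * t1) u = a • u := by rw [act_mul, t1u, act_smul, t2v]
    have hTz : act (t2 * t1) z = z := by rw [act_mul, t1z, t2z]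
    have f1 : act ((t2 * t1)⁻¹ * k) u = u := by rw [act_mul, hku, ← hTu, act_inv_act]
    have f2 : act ((t2 * t1)⁻¹ * k) z = z := by
      rw [act_mul, hkz]
      conv_lhs => rw [← hTz]
      rw [act_inv_act]
    obtain ⟨s, hs⟩ := eich_of_fix_perp hF hu (x := (t2 * t1)⁻¹ * k) (by
      intro y hy
      have hyu : hermForm 3 F q y u = 0 := (hermForm_eq_zero_comm hF).1 hy
      have hye := h.expand hF y
      rw [hyu, zero_smul, add_zero] at hye
      rw [hye, act_add, act_smul, act_smul, f1, f2])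
    have h3 := A.mul_mem (A.mul_mem ht2 ht1) (hA u hu hmu _ s hs)
    rwa [mul_inv_cancel_left] at h3
  obtain ⟨α, hα⟩ : ∃ α, α = hermForm 3 F q (act g u) v := ⟨_, rfl⟩
  obtain ⟨β, hβ⟩ : ∃ β, β = hermForm 3 F q (act g u) u := ⟨_, rfl⟩
  have hgu : act g u = α • u + β • v := by
    have e := h.expand hF (act g u)
    have e1 : hermForm 3 F q (act g u) z = 0 := by
      have := act_form g u z
      rwa [hgz, h.uz hF] at this
    rw [e1, zero_smul, add_zero, ← hα, ← hβ] at e
    exact e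
  by_cases hβ0 : β = 0
  · exact tor g hgz ⟨α, by rw [hgu, hβ0, zero_smul, add_zero]⟩
  have hβq : β ^ q ≠ 0 := pow_ne_zero _ hβ0
  have hr : (α / β) ^ q = α / β := by
    have h1 := act_form g u u
    rw [hgu, h.hyp.1] at h1
    simp only [hermForm_add_left, hermForm_add_right hF, hermForm_smul_left, hermForm_smul_right, h.hyp.1,
      h.hyp.2.1, h.hyp.2.2, h.vu hF] at h1
    rw [div_pow, div_eq_div_iff hβq hβ0]
    linear_combination h1 - α * β ^ q * htwo
  obtain ⟨t1, -, ht1⟩ := exists_transv hF (u := u) (a := α / β) hu.2 (by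
    rw [hr]; linear_combination (α / β) * htwo)
  have ht1A : t1 ∈ A := hA u hu hmu t1 _ ((isEich_zero_iff hF _ _ _).2 ht1)
  obtain ⟨J, hJ, hJu, -, hJz⟩ := swap 1 one_ne_zero (one_pow _)
  rw [one_smul] at hJu
  have ht1v : act t1 v = v + (α / β) • u := by rw [ht1, h.vu hF, mul_one]
  have ht1z : act t1 z = z := by rw [ht1, h.zu, mul_zero, zero_smul, add_zero]
  have hTu : act (t1 * J) (β • u) = act g u := by
    rw [act_mul, act_smul, hJu, act_smul, ht1v, hgu, smul_add, smul_smul, mul_div_cancel₀ _ hβ0, add_comm]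
  have hTz : act (t1 * J) z = z := by rw [act_mul, hJz, ht1z]
  have h3 : (t1 * J)⁻¹ * g ∈ A := by
    apply tor
    · rw [act_mul, hgz]
      conv_lhs => rw [← hTz]
      rw [act_inv_act]
    · exact ⟨β, by rw [act_mul, ← hTu, act_inv_act]⟩
  have h4 := A.mul_mem (A.mul_mem ht1A hJ) h3
  rwa [mul_inv_cancel_left] at h4

theorem sq_of_mem_XX [CharP F 2] {u : Fin 3 → F} (hu : Iso q u) {x : PSU 3 F q} (hx : x ∈ XX q u) :
    x * x = 1 := by
  obtain ⟨g, s, hg, rfl⟩ := (mem_XX hF hu).1 hx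
  have h1 := isEich_zero_mul hF hu.2 hg hg
  rw [CharTwo.add_self_eq_zero] at h1
  rw [← map_mul, h1.unique (isEich_one hF u), map_one]

theorem comm_XX {u : Fin 3 → F} (hu : Iso q u) {x y : PSU 3 F q} (hx : x ∈ XX q u) (hy : y ∈ XX q u) :
    x * y = y * x := (commute_XX hF le_rfl hu hu).2 hu.2 x hx y hy

theorem par_of_perp {u v : Fin 3 → F} (hu : Iso q u) (hv : Iso q v) (h : hermForm 3 F q u v = 0) : Par u v :=
  par_of_perp_plane hF (nd_top hF) (by rw [finrank_top]; simp) (Submodule.mem_top) (Submodule.mem_top) hu hv h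

/-- an involution of `PSU₃` lies in a transvection group -/
theorem exists_XX [CharP F 2] {t : PSU 3 F q} (ht1 : t ≠ 1) (htt : t * t = 1) :
    ∃ u, Iso q u ∧ t ∈ XX q u := by
  have hp : Fact (Nat.Prime 2) := ⟨Nat.prime_two⟩
  have hpg : IsPGroup 2 (Subgroup.zpowers t) := by
    apply IsPGroup.of_card (n := 1)
    rw [pow_one, Nat.card_zpowers]
    exact orderOf_two ht1 htt
  obtain ⟨P, hP⟩ := hpg.exists_le_sylow
  obtain ⟨u, hu, hPu⟩ := sylow_data hF P
  obtain ⟨g, hg, hgt⟩ := (hPu t).1 (hP (Subgroup.mem_zpowers t))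
  refine ⟨u, hu, ?_⟩
  have hgu := RR_fix hF hu hg
  have h1 : g * g = 1 := by
    apply eq_of_toPSU hF hu (by rw [act_mul, hgu, hgu]) (act_one u)
    rw [map_mul, hgt, htt, map_one]
  obtain ⟨s, hs⟩ := eich_of_sq hF hu hg h1
  exact (mem_XX hF hu).2 ⟨g, s, hs, hgt⟩

theorem XX_le_of_CP [CharP F 2] {H : Subgroup (PSU 3 F q)} (hC : CP H) {u : Fin 3 → F} (hu : Iso q u)
    {t : PSU 3 F q} (ht : t ∈ XX q u) (ht1 : t ≠ 1) (htH : t ∈ H) : XX q u ≤ H := by
  intro x hx
  exact hC t htH ht1 (sq_of_mem_XX hF hu ht) x (sq_of_mem_XX hF hu hx) (comm_XX hF hu ht hx)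

/-- the main theorem on `PSU₃` -/
theorem psu_main [CharP F 2] (hq : 3 ≤ q) {H : Subgroup (PSU 3 F q)} (hH : H ≠ ⊤)
    (heven : Even (Nat.card H)) (hC : CP H) (hK : KP H) : ∃ u, Iso q u ∧ H = XX q u := by
  obtain ⟨t, htH, ht⟩ := Cfsg.Agent.H80.exists_involution_mem heven
  obtain ⟨ht1, htt⟩ := two_of_orderOf ht
  obtain ⟨u, hu, htu⟩ := exists_XX hF ht1 htt
  have hXu := XX_le_of_CP hF hC hu htu ht1 htH
  have hK' : KP (H.comap (toPSU 3 F q)) := hK.comap _ toPSU_surjective
  have hmem : ∀ g : SU 3 F q, g ∈ H.comap (toPSU 3 F q) ↔ toPSU 3 F q g ∈ H := fun g => Iff.rfl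
  have hT : ∀ w, XX q w ≤ H → ∀ (g : SU 3 F q) (s : F), IsEich g w 0 s → g ∈ H.comap (toPSU 3 F q) := by
    intro w hw g s hg
    exact hw (Subgroup.subset_closure ⟨g, s, hg, rfl⟩)
  have hconj : ∀ g : SU 3 F q, g ∈ H.comap (toPSU 3 F q) → ∀ w, XX q w ≤ H → XX q (act g w) ≤ H := by
    intro g hg w hw
    rw [← conj_XX hF g]
    rintro _ ⟨x, hx, rfl⟩
    exact H.mul_mem (H.mul_mem hg (hw hx)) (H.inv_mem hg)
  by_cases hcase : ∃ v, Iso q v ∧ XX q v ≤ H ∧ ¬ Par u v
  · exfalso
    obtain ⟨v, hv, hXv, hpar⟩ := hcase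
    have huv : hermForm 3 F q u v ≠ 0 := fun h0 => hpar (par_of_perp hF hu hv h0)
    have hS : Closed q {w : Fin 3 → F | Iso q w ∧ XX q w ≤ H} := by
      rintro a ⟨ha, haX⟩ b ⟨hb, hbX⟩ c d hcd
      refine ⟨hcd, ?_⟩
      by_cases hab : hermForm 3 F q a b = 0
      · obtain ⟨e, he, heb⟩ := par_of_perp hF ha hb hab
        have h1 : c • a + d • b = (c + d * e) • a := by rw [heb]; module
        have h2 : c + d * e ≠ 0 := by
          intro h0
          rw [h0, zero_smul] at h1
          exact hcd.1 h1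
        have h3 : Par a (c • a + d • b) := ⟨_, h2, h1⟩
        rw [← XX_eq_of_par hF h3]
        exact haX
      · exact (XX_le_of_mem_span hF ha hb hcd hab (Submodule.mem_span_pair.2 ⟨c, d, rfl⟩)).trans
          (sup_le haX hbX)
    -- a hyperbolic pair
    have hc : ((hermForm 3 F q u v)⁻¹) ^ q ≠ 0 := pow_ne_zero _ (inv_ne_zero huv)
    obtain ⟨v', hv'⟩ : ∃ v', v' = ((hermForm 3 F q u v)⁻¹) ^ q • v := ⟨_, rfl⟩
    have hv'i : Iso q v' := by rw [hv']; exact hv.smul hF hc
    have hXv' : XX q v' ≤ H := by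
      rw [← XX_eq_of_par hF (u := v) ⟨_, hc, hv'⟩]; exact hXv
    have hHyp : Hyp q u v' := ⟨hu.2, hv'i.2, by
      rw [hv', hermForm_smul_right, pow_q_pow_q hF, inv_mul_cancel₀ huv]⟩
    by_cases hthird : ∃ c, (Iso q c ∧ XX q c ≤ H) ∧ c ∉ Submodule.span F {u, v'}
    · obtain ⟨c, hcS, hcs⟩ := hthird
      have hall : ∀ w, Iso q w → XX q w ≤ H := by
        intro w hw
        exact (Closed.plane hF hS (nd_top hF) (by rw [finrank_top]; simp) (a := u) (b := v') (c := c)
          Submodule.mem_top Submodule.mem_top Submodule.mem_top Submodule.mem_top ⟨hu, hXu⟩ ⟨hv'i, hXv'⟩ hcS hHyp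
          hcS.1 hcs hw).2
      apply hH
      rw [eq_top_iff]
      intro x _
      obtain ⟨g, rfl⟩ := toPSU_surjective x
      have hg : g ∈ TT 3 F q := by
        rw [TT_eq_top hF (by norm_num) (by omega)]; trivial
      have hle : TT 3 F q ≤ H.comap (toPSU 3 F q) := by
        rw [TT, Subgroup.closure_le]
        rintro A ⟨w, c, hw, hA⟩
        have hE : IsEich A w 0 c := (isEich_zero_iff_matrix hF A w c).2 hA
        by_cases hw0 : w = 0
        · have : A = 1 := by
            apply act_ext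
            intro x
            rw [(isEich_zero_iff hF _ _ _).1 hE, hw0, smul_zero, add_zero, act_one]
          rw [this]
          exact Subgroup.one_mem _
        · exact hT w (hall w ⟨hw0, hw⟩) A c hE
      exact hle hg
    · push Not at hthird
      obtain ⟨z, hz⟩ := exists_fr_of_hyp hF hHyp
      apply unit_case hF hq hz.zz (A := H.comap (toPSU 3 F q)) _ _ hK'
      · intro g hgz
        apply plane_gen hF hz _ hgz
        intro w hw hws
        apply hT w
        have := hS.mem_span (u := u) (v := v') ⟨hu, hXu⟩ ⟨hv'i, hXv'⟩ hws hw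
        exact this.2
      · intro g hg
        have hgi : g⁻¹ ∈ H.comap (toPSU 3 F q) := Subgroup.inv_mem _ hg
        have key : ∀ w, Iso q w → XX q w ≤ H → hermForm 3 F q (act g z) w = 0 := by
          intro w hw hwX
          have h1 := hthird (act g⁻¹ w) ⟨hw.act g⁻¹, hconj _ hgi w hwX⟩
          obtain ⟨a, b, hab⟩ := Submodule.mem_span_pair.1 h1
          have h2 := act_form g z (act g⁻¹ w)
          rw [act_act_inv] at h2
          rw [h2, ← hab, hermForm_add_right hF, hermForm_smul_right, hermForm_smul_right, hz.zu, hz.zv]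
          ring
        have e := hz.expand hF (act g z)
        rw [key u hu hXu, key v' hv'i hXv', zero_smul, zero_smul, zero_add, zero_add] at e
        exact ⟨_, e⟩
  · push Not at hcase
    refine ⟨u, hu, le_antisymm ?_ hXu⟩
    intro x hx
    obtain ⟨g, rfl⟩ := toPSU_surjective x
    obtain ⟨k, s, hk, hkg⟩ := point_case hF hq hu (A := H.comap (toPSU 3 F q)) (by
      intro z hz
      have : toPSU 3 F q z = 1 := (QuotientGroup.eq_one_iff _).2 hz
      rw [hmem, this]; exact H.one_mem) (hT u hXu) (by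
      intro g hg
      obtain ⟨c, -, hc⟩ := hcase (act g u) (hu.act g) (hconj g hg u hXu)
      exact ⟨c, hc⟩) hK' (g := g) hx
    rw [← hkg]
    exact (mem_XX hF hu).2 ⟨k, s, hk, rfl⟩

end

end Cfsg.Agent.BinInv
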