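import Cfsg.Agent.BinInv.UnitCase

/-!
# Subgroups of `SU₃(q)` stabilising an isotropic point: elements of odd order, first part
-/

set_option autoImplicit false
set_option linter.unusedSectionVars false

namespace Cfsg.Agent.BinInv

open Cfsg Cfsg.Agent.Uni Cfsg.Agent.AutPSU Cfsg.Agent.H38.PSU3 Cfsg.Agent.PSU3Id.MG

variable {F : Type*} [Field F] [Fintype F] {q : ℕ}

section

variable (hF : Fintype.card F = q ^ 2)
include hF

theorem exists_diag_frame {u : Fin 3 → F} (hu : Iso q u) {g : SU 3 F q} {a : F} (hg : act g u = a • u)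
    (ha : a ^ (q + 1) ≠ 1) : ∃ v z, Fr q u v z ∧ act g v = (a ^ q)⁻¹ • v := by
  obtain ⟨v, z, h⟩ := exists_fr hF hu
  obtain ⟨ha0, x, y₁, y₂, hgz, hgv⟩ := borel hF h hg
  have haq : a ^ q ≠ 0 := pow_ne_zero _ ha0
  obtain ⟨ρ, hρ⟩ : ∃ ρ, ρ = (a ^ q)⁻¹ := ⟨_, rfl⟩
  obtain ⟨μ, hμ⟩ : ∃ μ, μ = a ^ q / a := ⟨_, rfl⟩
  have h1 : ρ - μ ≠ 0 := by
    intro h0
    apply ha
    have h2 : a = a ^ q * a ^ q := by
      have h3 : ρ = μ := sub_eq_zero.1 h0
      rw [hρ, hμ, inv_eq_one_div, div_eq_div_iff haq ha0, one_mul] at h3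
      exact h3
    have h3 : a ^ q = a * a := by
      conv_lhs => rw [h2]
      rw [mul_pow, pow_q_pow_q hF]
    rw [pow_succ, h3]
    rw [h3] at h2
    have h4 : a * 1 = a * (a * a * a) := by rw [mul_one]; linear_combination h2
    exact (mul_left_cancel₀ ha0 h4).symm
  have h2 : ρ - a ≠ 0 := by
    intro h0
    apply ha
    have h3 : ρ = a := sub_eq_zero.1 h0
    rw [pow_succ]
    conv_lhs => rw [← h3]
    rw [hρ]
    have h4 : ((a ^ q)⁻¹) ^ q = a⁻¹ := by rw [inv_pow, pow_q_pow_q hF]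
    rw [h4, ← mul_inv, ← pow_succ', inv_eq_one]
    have h5 : (a ^ q)⁻¹ = a := by rw [← hρ, h3]
    rw [inv_eq_iff_eq_inv] at h5
    rw [pow_succ, h5, inv_mul_cancel₀ ha0]
  obtain ⟨x', hx'⟩ : ∃ x', x' = y₁ / (ρ - μ) := ⟨_, rfl⟩
  obtain ⟨y', hy'⟩ : ∃ y', y' = (y₂ + x' * x) / (ρ - a) := ⟨_, rfl⟩
  have ex : y₁ + x' * μ = ρ * x' := by rw [hx']; field_simp; ring
  have ey : y₂ + x' * x + y' * a = ρ * y' := by rw [hy']; field_simp; ring
  have hgv' : act g (v + x' • z + y' • u) = ρ • (v + x' • z + y' • u) := by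
    rw [act_add, act_add, act_smul, act_smul, hgv, hgz, hg, ← hρ, ← hμ]
    have : ρ • v + y₁ • z + y₂ • u + x' • (μ • z + x • u) + y' • a • u =
        ρ • v + (y₁ + x' * μ) • z + (y₂ + x' * x + y' * a) • u := by module
    rw [this, ex, ey]; module
  have hρN : ρ ^ (q + 1) ≠ 1 := by
    intro h3
    apply ha
    rw [hρ, inv_pow, inv_eq_one, ← pow_mul, mul_comm, pow_mul, norm_pow_q hF] at h3
    exact h3
  have hH : Hyp q u (v + x' • z + y' • u) := by
    refine ⟨h.hyp.1, ?_, ?_⟩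
    · have h3 := act_form g (v + x' • z + y' • u) (v + x' • z + y' • u)
      rw [hgv', hermForm_smul_left, hermForm_smul_right, ← mul_assoc, ← pow_succ'] at h3
      by_contra h0
      exact hρN (mul_right_cancel₀ h0 (by rw [one_mul]; exact h3))
    · rw [hermForm_add_right hF, hermForm_add_right hF, hermForm_smul_right, hermForm_smul_right, h.hyp.2.2,
        h.uz hF, h.hyp.1]; ring
  obtain ⟨z', hz'⟩ := exists_fr_of_hyp hF hH
  exact ⟨_, z', hz', by rw [hgv', hρ]⟩

theorem act_pow {g : SU 3 F q} {x : Fin 3 → F} {a : F} (h : act g x = a • x) (n : ℕ) :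
    act (g ^ n) x = a ^ n • x := by
  induction n with
  | zero => rw [pow_zero, pow_zero, act_one, one_smul]
  | succ n ih => rw [pow_succ, act_mul, h, act_smul, ih, smul_smul, pow_succ, mul_comm]

variable {A : Subgroup (SU 3 F q)} {u : Fin 3 → F}

/-- monomial involutions are transvections -/
theorem isEich_mono [CharP F 2] {v z : Fin 3 → F} (h : Fr q u v z) {g : SU 3 F q} {d : F} (hd : d ≠ 0)
    (hdq : d ^ q = d) (h1 : act g u = d • v) (h2 : act g v = d⁻¹ • u) (h3 : act g z = z) :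
    Iso q (u + d • v) ∧ IsEich g (u + d • v) 0 d⁻¹ := by
  have htwo : (2 : F) = 0 := CharTwo.two_eq_zero
  have hv0 := (h.hyp.symm hF).left_ne
  have hiso : Iso q (u + d • v) := by
    refine ⟨?_, ?_⟩
    · intro h0
      have h4 : hermForm 3 F q (u + d • v) v = 0 := by rw [h0, hermForm_zero_left]
      rw [hermForm_add_left, hermForm_smul_left, h.hyp.2.2, h.hyp.2.1, mul_zero, add_zero] at h4
      exact one_ne_zero h4
    · simp only [hermForm_add_left, hermForm_add_right hF, hermForm_smul_left, hermForm_smul_right, h.hyp.1,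
        h.hyp.2.1, h.hyp.2.2, h.vu hF, hdq]
      linear_combination d * htwo
  refine ⟨hiso, ?_⟩
  obtain ⟨t, -, ht⟩ := exists_transv hF (a := d⁻¹) hiso.2 (by
    rw [inv_pow, hdq]; linear_combination d⁻¹ * htwo)
  have : g = t := by
    apply fr_ext hF h
    · rw [h1, ht, hermForm_add_right hF, hermForm_smul_right, h.hyp.1, h.hyp.2.2, hdq, zero_add, mul_one,
        inv_mul_cancel₀ hd, one_smul]
      have : u + (u + d • v) = (2 : F) • u + d • v := by module
      rw [this, htwo, zero_smul, zero_add]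
    · rw [h2, ht, hermForm_add_right hF, hermForm_smul_right, h.hyp.2.1, h.vu hF, mul_zero, add_zero, mul_one,
        smul_add, smul_smul, inv_mul_cancel₀ hd]
      have : v + (d⁻¹ • u + (1 : F) • v) = (2 : F) • v + d⁻¹ • u := by module
      rw [this, htwo, zero_smul, zero_add]
    · rw [h3, ht, hermForm_add_right hF, hermForm_smul_right, h.zu, h.zv]; simp
  rw [this, isEich_zero_iff hF]
  exact ht

/-- the norm of the eigenvalue is one -/
theorem point_case_norm [CharP F 2] (hu : Iso q u)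
    (hT : ∀ (g : SU 3 F q) (s : F), IsEich g u 0 s → g ∈ A) (h1 : ∀ g ∈ A, ∃ κ : F, act g u = κ • u)
    (hK : KP A) {g : SU 3 F q} (hgA : g ∈ A) {a : F} (hg : act g u = a • u) : a ^ (q + 1) = 1 := by
  by_contra ha
  have htwo : (2 : F) = 0 := CharTwo.two_eq_zero
  obtain ⟨v, z, h, hgv⟩ := exists_diag_frame hF hu hg ha
  obtain ⟨ha0, -, hgz⟩ := diag_eq hF h hg hgv
  obtain ⟨c, hc⟩ : ∃ c, c = a ^ (q + 1) := ⟨_, rfl⟩
  have hc0 : c ≠ 0 := by rw [hc]; exact pow_ne_zero _ ha0
  have hcq : c ^ q = c := by rw [hc, norm_pow_q hF]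
  have hc1 : c ≠ 1 := by rw [hc]; exact ha
  have hNq : (a ^ q) ^ (q + 1) = a ^ (q + 1) := by rw [← pow_mul, mul_comm, pow_mul, norm_pow_q hF]
  obtain ⟨k, hk⟩ : ∃ k, k = g ^ (q + 1) := ⟨_, rfl⟩
  have hkA : k ∈ A := by rw [hk]; exact pow_mem hgA _
  have hku : act k u = c • u := by rw [hk, act_pow hF hg, hc]
  have hkv : act k v = c⁻¹ • v := by rw [hk, act_pow hF hgv, inv_pow, hNq, hc]
  have hkz : act k z = z := by
    rw [hk, act_pow hF hgz, div_pow, hNq, div_self (by rw [← hc]; exact hc0), one_smul]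
  -- the swap
  have hiso : hermForm 3 F q (u + v) (u + v) = 0 := by
    simp only [hermForm_add_left, hermForm_add_right hF, h.hyp.1, h.hyp.2.1, h.hyp.2.2, h.vu hF]
    linear_combination htwo
  obtain ⟨J, -, hJ⟩ := exists_transv hF (a := (1 : F)) hiso (by
    rw [one_pow]; linear_combination htwo)
  have hJu : act J u = v := by
    rw [hJ, hermForm_add_right hF, h.hyp.1, h.hyp.2.2, zero_add, mul_one, one_smul]
    have : u + (u + v) = (2 : F) • u + v := by module
    rw [this, htwo, zero_smul, zero_add]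
  have hJv : act J v = u := by
    rw [hJ, hermForm_add_right hF, h.hyp.2.1, h.vu hF, add_zero, mul_one, one_smul]
    have : v + (u + v) = (2 : F) • v + u := by module
    rw [this, htwo, zero_smul, zero_add]
  have hJz : act J z = z := by
    rw [hJ, hermForm_add_right hF, h.zu, h.zv]; simp
  obtain ⟨G, hG, hGK⟩ := hK J
  obtain ⟨l, hl⟩ := h1 _ hG
  have hGu : act G u = l • v := by
    have h3 : act G u = act J (act (J⁻¹ * G) u) := by rw [← act_mul, mul_inv_cancel_left]
    rw [h3, hl, act_smul, hJu]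
  have key : ∀ (r : SU 3 F q) (d : F), r ∈ A → d ≠ 0 → d ^ q = d → act r u = d • u → act r v = d⁻¹ • v →
      act r z = z → ∃ m : F, m ≠ 0 ∧ act G (u + d • v) = m • (u + d • v) := by
    intro r d hr hd hdq hru hrv hrz
    obtain ⟨hwi, hE⟩ := isEich_mono hF h (g := J * r) hd hdq (by rw [act_mul, hru, act_smul, hJu])
      (by rw [act_mul, hrv, act_smul, hJv]) (by rw [act_mul, hrz, hJz])
    obtain ⟨b, hb⟩ := trans_iso hF hu hwi
    have h3 : b⁻¹ * G * b ∈ A := by
      apply hGK b r hr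
      have h4 := hE.conj b⁻¹
      rw [← hb, act_inv_act, act_zero, inv_inv] at h4
      exact hT _ _ h4
    obtain ⟨m, hm⟩ := h1 _ h3
    rw [act_mul, act_mul, hb] at hm
    have h4 := congrArg (act b) hm
    rw [act_act_inv, act_smul, hb] at h4
    refine ⟨m, ?_, h4⟩
    rintro rfl
    rw [zero_smul] at h4
    exact act_ne_zero hwi.1 h4
  obtain ⟨m1, hm1, e1⟩ := key 1 1 A.one_mem one_ne_zero (one_pow _) (by rw [act_one, one_smul])
    (by rw [act_one, inv_one, one_smul]) (act_one z)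
  obtain ⟨m2, hm2, e2⟩ := key k c hkA hc0 hcq hku hkv hkz
  obtain ⟨m3, hm3, e3⟩ := key (k ^ 2) (c ^ 2) (pow_mem hkA 2) (pow_ne_zero _ hc0)
    (by rw [← pow_mul, mul_comm, pow_mul, hcq]) (act_pow hF hku 2)
    (by rw [act_pow hF hkv 2, inv_pow]) (by
      have := act_pow hF (g := k) (x := z) (a := 1) (by rw [hkz, one_smul]) 2
      rwa [one_pow, one_smul] at this)
  have hGv : act G v = m1 • (u + v) - l • v := by
    have : act G v = act G (u + (1 : F) • v) - act G u := by rw [one_smul, act_add]; abel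
    rw [this, e1, hGu, one_smul]
  have gen : ∀ (d m : F), d ≠ 1 → d ≠ 0 → act G (u + d • v) = m • (u + d • v) → l = -(d * m1) := by
    intro d m hd hd0 e
    rw [act_add, act_smul, hGu, hGv] at e
    have f1 : hermForm 3 F q (l • v + d • (m1 • (u + v) - l • v)) v = hermForm 3 F q (m • (u + d • v)) v := by
      rw [e]
    have f2 : hermForm 3 F q (l • v + d • (m1 • (u + v) - l • v)) u = hermForm 3 F q (m • (u + d • v)) u := by
      rw [e]
    simp only [hermForm_add_left, hermForm_sub_left, hermForm_smul_left, h.hyp.1, h.hyp.2.1, h.hyp.2.2,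
      h.vu hF] at f1 f2
    have f3 : (l + d * m1) * (1 - d) = 0 := by linear_combination f2 - d * f1
    have f4 := (mul_eq_zero.1 f3).resolve_right (sub_ne_zero.2 hd.symm)
    linear_combination f4
  have g1 := gen c m2 hc1 hc0 e2
  have hc2 : c ^ 2 ≠ 1 := by
    intro h0
    apply hc1
    have : (c - 1) ^ 2 = 0 := by linear_combination h0 + (1 - c) * htwo
    exact sub_eq_zero.1 (pow_eq_zero_iff two_ne_zero |>.1 this)
  have g2 := gen (c ^ 2) m3 hc2 (pow_ne_zero _ hc0) e3
  have g3 : c * m1 * (c - 1) = 0 := by linear_combination g2 - g1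
  rcases mul_eq_zero.1 g3 with h0 | h0
  · exact mul_ne_zero hc0 hm1 h0
  · exact hc1 (sub_eq_zero.1 h0)

end

end Cfsg.Agent.BinInv
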