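import Cfsg.Agent.BinInv.PointA

/-!
# Subgroups of `SU₃(q)` stabilising an isotropic point: homologies
-/

set_option autoImplicit false
set_option linter.unusedSectionVars false

namespace Cfsg.Agent.BinInv

open Cfsg Cfsg.Agent.Uni Cfsg.Agent.AutPSU Cfsg.Agent.H38.PSU3 Cfsg.Agent.PSU3Id.MG

variable {F : Type*} [Field F] [Fintype F] {q : ℕ}

section

variable (hF : Fintype.card F = q ^ 2)
include hF

/-- an element fixing all isotropic points of an anisotropic line is a scalar there -/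
theorem scalar_of_iso_perp [CharP F 2] {a b c : Fin 3 → F} (h : On q a b c) {G : SU 3 F q}
    (hG : ∀ x, Iso q x → hermForm 3 F q x a = 0 → ∃ l : F, act G x = l • x) :
    ∃ l : F, act G b = l • b ∧ act G c = l • c := by
  have htwo : (2 : F) = 0 := CharTwo.two_eq_zero
  obtain ⟨ν, hν, hν1⟩ := exists_norm_one_ne hF
  have hν0 : ν ≠ 0 := by
    rintro rfl
    rw [zero_pow (by omega)] at hν
    exact zero_ne_one hν
  have key : ∀ ζ : F, ζ ^ (q + 1) = 1 → ∃ l : F, act G (b + ζ • c) = l • (b + ζ • c) := by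
    intro ζ hζ
    apply hG
    · refine ⟨?_, ?_⟩
      · intro h0
        have h1 : hermForm 3 F q (b + ζ • c) b = 0 := by rw [h0, hermForm_zero_left]
        rw [hermForm_add_left, hermForm_smul_left, h.bb, h.cb hF, mul_zero, add_zero] at h1
        exact one_ne_zero h1
      · rw [pow_succ'] at hζ
        simp only [hermForm_add_left, hermForm_add_right hF, hermForm_smul_left, hermForm_smul_right, h.bb, h.cc,
          h.bc, h.cb hF]
        linear_combination htwo + hζ
    · rw [hermForm_add_left, hermForm_smul_left, h.ba hF, h.ca hF]; ring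
  obtain ⟨l1, e1⟩ := key 1 (one_pow _)
  obtain ⟨l2, e2⟩ := key ν hν
  obtain ⟨l3, e3⟩ := key ν⁻¹ (by rw [inv_pow, hν, inv_one])
  rw [one_smul, act_add] at e1
  rw [act_add, act_smul] at e2 e3
  obtain ⟨B1, hB1⟩ : ∃ B1, B1 = hermForm 3 F q (act G b) b := ⟨_, rfl⟩
  obtain ⟨B2, hB2⟩ : ∃ B2, B2 = hermForm 3 F q (act G b) c := ⟨_, rfl⟩
  obtain ⟨C1, hC1⟩ : ∃ C1, C1 = hermForm 3 F q (act G c) b := ⟨_, rfl⟩
  obtain ⟨C2, hC2⟩ : ∃ C2, C2 = hermForm 3 F q (act G c) c := ⟨_, rfl⟩
  have k1 := congrArg (fun y => hermForm 3 F q y b) e1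
  have k2 := congrArg (fun y => hermForm 3 F q y c) e1
  have k3 := congrArg (fun y => hermForm 3 F q y b) e2
  have k4 := congrArg (fun y => hermForm 3 F q y c) e2
  have k5 := congrArg (fun y => hermForm 3 F q y b) e3
  have k6 := congrArg (fun y => hermForm 3 F q y c) e3
  simp only [hermForm_add_left, hermForm_smul_left, h.bb, h.cc, h.bc, h.cb hF, ← hB1, ← hB2, ← hC1,
    ← hC2] at k1 k2 k3 k4 k5 k6
  have hνi : ν⁻¹ * ν = 1 := inv_mul_cancel₀ hν0
  have p1 : (1 + ν⁻¹) * l1 - ν⁻¹ * l2 - l3 = 0 := by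
    linear_combination -(1 + ν⁻¹) * k1 + ν⁻¹ * k3 + k5 - C1 * hνi
  have p2 : (1 + ν⁻¹) * l1 - l2 - l3 * ν⁻¹ = 0 := by
    linear_combination -(1 + ν⁻¹) * k2 + ν⁻¹ * k4 + k6 + (l2 - C2) * hνi
  have p3 : (1 - ν⁻¹) * (l2 - l3) = 0 := by linear_combination p1 - p2
  have hi1 : ν⁻¹ ≠ 1 := fun h0 => hν1 (inv_eq_one.1 h0)
  have q1 : l2 = l3 := sub_eq_zero.1 ((mul_eq_zero.1 p3).resolve_left (sub_ne_zero.2 hi1.symm))
  have p4 : (1 - ν⁻¹) * (l1 - l2) = 0 := by
    rw [← q1] at p1
    linear_combination p1 - ν⁻¹ * (l1 - l2) * htwo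
  have q2 : l1 = l2 := sub_eq_zero.1 ((mul_eq_zero.1 p4).resolve_left (sub_ne_zero.2 hi1.symm))
  have hc : act G c = l1 • c := by
    have h3 : (1 - ν) • act G c = (1 - ν) • (l1 • c) := by
      calc (1 - ν) • act G c = (act G b + act G c) - (act G b + ν • act G c) := by module
        _ = _ := by rw [e1, e2, ← q2]; module
    exact smul_right_injective _ (sub_ne_zero.2 hν1.symm) h3
  refine ⟨l1, ?_, hc⟩
  have : act G b = (act G b + act G c) - act G c := by abel
  rw [this, e1, hc]; module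

variable {A : Subgroup (SU 3 F q)} {u : Fin 3 → F}

theorem homol_mul {a b c : Fin 3 → F} (_h : On q a b c) {r : SU 3 F q} {α β : F} (hr : IsHomol r a α β)
    {x : Fin 3 → F} : act r x = (hermForm 3 F q x a * α) • a + β • (x - hermForm 3 F q x a • a) := by
  have h1 : x = hermForm 3 F q x a • a + (x - hermForm 3 F q x a • a) := by abel
  conv_lhs => rw [h1]
  rw [act_add, act_smul, hr.1, smul_smul, hr.2 _ (by
    rw [hermForm_sub_left, hermForm_smul_left, _h.aa, mul_one, sub_self])]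

theorem homol_unique {a b c : Fin 3 → F} (h : On q a b c) {r r' : SU 3 F q} {α β : F} (hr : IsHomol r a α β)
    (hr' : IsHomol r' a α β) : r = r' := by
  apply act_ext
  intro x
  rw [homol_mul hF h hr, homol_mul hF h hr']

theorem homol_conj {a a' : Fin 3 → F} {r k : SU 3 F q} {α β δ : F} (hr : IsHomol r a' α β) (hδ : δ ≠ 0)
    (hk : act k a = δ • a') : IsHomol (k⁻¹ * r * k) a α β := by
  constructor
  · rw [act_mul, act_mul, hk, act_smul, hr.1, smul_comm, ← hk, act_smul, act_inv_act]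
  · intro w hw
    have h1 : hermForm 3 F q (act k w) a' = 0 := by
      have h2 := act_form k w a
      rw [hk, hw, hermForm_smul_right] at h2
      exact (mul_eq_zero.1 h2).resolve_left (pow_ne_zero _ hδ)
    rw [act_mul, act_mul, hr.2 _ h1, act_smul, act_inv_act]

/-- the eigenvalue is a cube root of unity -/
theorem point_case_cube [CharP F 2] (hu : Iso q u) (hsc : Subgroup.center (SU 3 F q) ≤ A)
    (hT : ∀ (g : SU 3 F q) (s : F), IsEich g u 0 s → g ∈ A) (h1 : ∀ g ∈ A, ∃ κ : F, act g u = κ • u)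
    (hK : KP A) {g : SU 3 F q} (hgA : g ∈ A) {a : F} (hg : act g u = a • u) : a ^ 3 = 1 := by
  by_contra ha3
  have hN := point_case_norm hF hu hT h1 hK hgA hg
  obtain ⟨v, z, h⟩ := exists_fr hF hu
  obtain ⟨ha0, x, y₁, y₂, hgz, -⟩ := borel hF h hg
  have haq : a ^ q = a⁻¹ := eq_inv_of_mul_eq_one_left (by rw [← pow_succ]; exact hN)
  obtain ⟨μ, hμ⟩ : ∃ μ, μ = (a ^ 2)⁻¹ := ⟨_, rfl⟩
  have hμ' : a ^ q / a = μ := by rw [haq, hμ]; field_simp
  rw [hμ'] at hgz
  have hμa : μ - a ≠ 0 := by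
    intro h0
    apply ha3
    have h2 : μ = a := sub_eq_zero.1 h0
    rw [hμ, inv_eq_iff_eq_inv] at h2
    calc a ^ 3 = a ^ 2 * a := by ring
      _ = 1 := by rw [h2, inv_mul_cancel₀ ha0]
  obtain ⟨x', hx'⟩ : ∃ x', x' = x / (μ - a) := ⟨_, rfl⟩
  obtain ⟨e3, he3⟩ : ∃ e3, e3 = z + x' • u := ⟨_, rfl⟩
  have hge3 : act g e3 = μ • e3 := by
    have ex : x + x' * a = μ * x' := by rw [hx']; field_simp; ring
    rw [he3, act_add, act_smul, hgz, hg]
    have : μ • z + x • u + x' • a • u = μ • z + (x + x' * a) • u := by module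
    rw [this, ex]; module
  have he33 : hermForm 3 F q e3 e3 = 1 := by
    rw [he3]
    simp only [hermForm_add_left, hermForm_add_right hF, hermForm_smul_left, hermForm_smul_right, h.zz, h.zu,
      h.uz hF, h.hyp.1]
    ring
  have hue3 : hermForm 3 F q u e3 = 0 := by
    rw [he3, hermForm_add_right hF, hermForm_smul_right, h.uz hF, h.hyp.1]; ring
  -- the homology
  obtain ⟨r, hr⟩ := exists_homol hF (y := e3) (by rw [he33]; exact one_ne_zero) hN
  have hrA : r ∈ A := by
    obtain ⟨s, hs⟩ := eich_of_fix_perp hF hu (x := r⁻¹ * g) (by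
      intro y hy
      have hyu : hermForm 3 F q y u = 0 := (hermForm_eq_zero_comm hF).1 hy
      have hye := h.expand hF y
      rw [hyu, zero_smul, add_zero] at hye
      have hye' : y = (hermForm 3 F q y v - hermForm 3 F q y z * x') • u + hermForm 3 F q y z • e3 := by
        conv_lhs => rw [hye]
        rw [he3]; module
      have h3 : act (r⁻¹ * g) u = u := by
        rw [act_mul, hg, ← hr.2 u hue3, act_inv_act]
      have h4 : act (r⁻¹ * g) e3 = e3 := by
        rw [act_mul, hge3, hμ, ← hr.1, act_inv_act]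
      rw [hye', act_add, act_smul, act_smul, h3, h4])
    have h3 := hT _ _ hs
    have h4 := A.mul_mem hgA (A.inv_mem h3)
    have h5 : g * (r⁻¹ * g)⁻¹ = r := by group
    rwa [h5] at h4
  -- the orthonormal basis
  obtain ⟨e1, e2, hon'⟩ := exists_on hF he33
  have hon : On q e1 e2 e3 := hon'.rot hF
  obtain ⟨r1, hr1⟩ := exists_homol hF (y := e1) (by rw [hon.aa]; exact one_ne_zero) hN
  rw [← hμ] at hr hr1
  have hμ0 : μ ≠ 0 := by rw [hμ]; exact inv_ne_zero (pow_ne_zero _ ha0)
  obtain ⟨G, hG, hGK⟩ := hK r1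
  have hδ0 : ∀ δ : F, δ ^ (q + 1) = 1 → δ ≠ 0 := by
    rintro δ h0 rfl
    rw [zero_pow (by omega)] at h0
    exact zero_ne_one h0
  have fin : ∀ (b : SU 3 F q) (x : Fin 3 → F), act b u = x → b⁻¹ * G * b ∈ A → ∃ l : F, act G x = l • x := by
    intro b x hb hbA
    obtain ⟨l, hl⟩ := h1 _ hbA
    refine ⟨l, ?_⟩
    rw [act_mul, act_mul, hb] at hl
    have h4 := congrArg (act b) hl
    rwa [act_act_inv, act_smul, hb] at h4
  have k1 : ∀ x, Iso q x → hermForm 3 F q x e1 = 0 → ∃ l : F, act G x = l • x := by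
    intro x hx hxe
    obtain ⟨b, δ, hδ, hb1, hb2⟩ := trans_flag hF he33 hon.aa hu hx hue3 hxe
    apply fin b x hb2
    apply hGK b 1 A.one_mem
    rw [mul_one]
    have h3 := homol_unique hF hon' (homol_conj hF hr1 (hδ0 δ hδ) hb1) hr
    rw [h3]; exact hrA
  have k2 : ∀ x, Iso q x → hermForm 3 F q x e2 = 0 → ∃ l : F, act G x = l • x := by
    intro x hx hxe
    obtain ⟨b, δ, hδ, hb1, hb2⟩ := trans_flag hF he33 hon.bb hu hx hue3 hxe
    apply fin b x hb2
    apply hGK b r hrA
    have h3 : IsHomol (r1 * r) e2 (a ^ 2) a⁻¹ := by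
      constructor
      · rw [act_mul, hr.2 e2 hon.bc, act_smul, hr1.2 e2 (hon.ba hF), smul_smul, pow_two]
      · intro w hw
        have hwe := hon.expand hF w
        rw [hw, zero_smul, add_zero] at hwe
        have f1 : act (r1 * r) e1 = a⁻¹ • e1 := by
          rw [act_mul, hr.2 e1 hon.ac, act_smul, hr1.1, smul_smul]
          congr 1
          rw [hμ]; field_simp
        have f2 : act (r1 * r) e3 = a⁻¹ • e3 := by
          rw [act_mul, hr.1, act_smul, hr1.2 e3 (hon.ca hF), smul_smul]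
          congr 1
          rw [hμ]; field_simp
        rw [hwe, act_add, act_smul, act_smul, f1, f2]; module
    have h4 : IsHomol r⁻¹ e3 (a ^ 2) a⁻¹ := by
      constructor
      · have : act r⁻¹ (act r e3) = act r⁻¹ (μ • e3) := by rw [hr.1]
        rw [act_inv_act, act_smul] at this
        conv_rhs => rw [this, smul_smul]
        rw [hμ, mul_inv_cancel₀ (pow_ne_zero _ ha0), one_smul]
      · intro w hw
        have : act r⁻¹ (act r w) = act r⁻¹ (a • w) := by rw [hr.2 w hw]
        rw [act_inv_act, act_smul] at this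
        conv_rhs => rw [this, smul_smul]
        rw [inv_mul_cancel₀ ha0, one_smul]
    have h5 := homol_unique hF hon' (homol_conj hF h3 (hδ0 δ hδ) hb1) h4
    rw [h5]; exact A.inv_mem hrA
  obtain ⟨l, hl2, hl3⟩ := scalar_of_iso_perp hF hon k1
  obtain ⟨l', hl1, hl3'⟩ := scalar_of_iso_perp hF (hon.swap hF) k2
  have hll : l' = l := by
    have h3 : hermForm 3 F q (l' • e3) e3 = hermForm 3 F q (l • e3) e3 := by rw [← hl3, ← hl3']
    rwa [hermForm_smul_left, hermForm_smul_left, hon.cc, mul_one, mul_one] at h3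
  rw [hll] at hl1
  have hGs : ∀ x, act G x = l • x := by
    intro x
    conv_lhs => rw [hon.expand hF x]
    conv_rhs => rw [hon.expand hF x]
    rw [act_add, act_add, act_smul, act_smul, act_smul, hl1, hl2, hl3]
    module
  have hGA : G ∈ A := hsc (mem_center_of_scalar hF (by norm_num) hGs)
  have hr1A : r1 ∈ A := by
    have h3 := A.mul_mem hGA (A.inv_mem hG)
    have h4 : G * (r1⁻¹ * G)⁻¹ = r1 := by group
    rwa [h4] at h3
  obtain ⟨m, hm⟩ := h1 _ hr1A
  -- the coordinates of `u`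
  obtain ⟨α, hα⟩ : ∃ α, α = hermForm 3 F q u e1 := ⟨_, rfl⟩
  obtain ⟨β, hβ⟩ : ∃ β, β = hermForm 3 F q u e2 := ⟨_, rfl⟩
  have hue := hon.expand hF u
  rw [hue3, zero_smul, add_zero, ← hα, ← hβ] at hue
  have huu : α * α ^ q + β * β ^ q = 0 := by
    have h3 := hu.2
    rw [hue] at h3
    simp only [hermForm_add_left, hermForm_add_right hF, hermForm_smul_left, hermForm_smul_right, hon.aa, hon.bb,
      hon.ab, hon.ba hF] at h3
    linear_combination h3
  have hα0 : α ≠ 0 := by
    intro h0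
    rw [h0, zero_mul, zero_add, ← pow_succ'] at huu
    have h3 : β = 0 := pow_eq_zero_iff (by omega) |>.1 huu
    rw [h0, h3, zero_smul, zero_smul, add_zero] at hue
    exact hu.1 hue
  have hβ0 : β ≠ 0 := by
    intro h0
    rw [h0, zero_mul, add_zero, ← pow_succ'] at huu
    exact hα0 (pow_eq_zero_iff (by omega) |>.1 huu)
  have hm' : act r1 u = (α * μ) • e1 + (β * a) • e2 := by
    conv_lhs => rw [hue]
    rw [act_add, act_smul, act_smul, hr1.1, hr1.2 e2 (hon.ba hF), smul_smul, smul_smul]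
  rw [hm'] at hm
  have m1 := congrArg (fun y => hermForm 3 F q y e1) hm
  have m2 := congrArg (fun y => hermForm 3 F q y e2) hm
  simp only [hermForm_add_left, hermForm_smul_left, hon.aa, hon.bb, hon.ab, hon.ba hF, ← hα, ← hβ] at m1 m2
  have m3 : (μ - m) * α = 0 := by linear_combination m1
  have m4 : (a - m) * β = 0 := by linear_combination m2
  have m5 := (mul_eq_zero.1 m3).resolve_right hα0
  have m6 := (mul_eq_zero.1 m4).resolve_right hβ0
  exact hμa (by linear_combination m5 - m6)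

end

end Cfsg.Agent.BinInv
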