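import Cfsg.Agent.BinInv.PointB

/-!
# Subgroups of `SU₃(q)` stabilising an isotropic point: elements of order four
-/

set_option autoImplicit false
set_option linter.unusedSectionVars false

namespace Cfsg.Agent.BinInv

open Cfsg Cfsg.Agent.Uni Cfsg.Agent.AutPSU Cfsg.Agent.H38.PSU3 Cfsg.Agent.PSU3Id.MG

variable {F : Type*} [Field F] [Fintype F] {q : ℕ}

section

variable (hF : Fintype.card F = q ^ 2)
include hF

theorem exists_cube_trace (hq : 3 ≤ q) : ∃ a : F, a ^ 3 - (a ^ 3) ^ q ≠ 0 := by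
  by_contra hcon
  push Not at hcon
  obtain ⟨g, hg⟩ := IsCyclic.exists_generator (α := Fˣ)
  have h1 : orderOf g = (q + 1) * (q - 1) := by
    rw [orderOf_eq_card_of_forall_mem_zpowers hg, card_units hF]
  have h2 : g ^ (3 * (q - 1)) = 1 := by
    have h3 := hcon (g : F)
    have h4 : (g ^ 3 : Fˣ) = (g ^ 3) ^ q := by
      apply Units.ext
      push_cast
      exact sub_eq_zero.1 h3
    have h5 : (g ^ 3) ^ (q - 1) = 1 := by
      have h6 : (g ^ 3) ^ (q - 1) * g ^ 3 = 1 * g ^ 3 := by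
        rw [← pow_succ, Nat.sub_add_cancel (by omega), ← h4, one_mul]
      exact mul_right_cancel h6
    rw [pow_mul]; exact h5
  have h3 := orderOf_dvd_of_pow_eq_one h2
  rw [h1] at h3
  have h4 : q + 1 ∣ 3 := Nat.dvd_of_mul_dvd_mul_right (by omega) h3
  have := Nat.le_of_dvd (by norm_num) h4
  omega

/-- the element of order three -/
theorem exists_three [CharP F 2] (hq : 3 ≤ q) {u v z : Fin 3 → F} (h : Fr q u v z) {g : SU 3 F q} {x y₁ y₂ : F}
    (hgu : act g u = u) (hgz : act g z = z + x • u) (hgv : act g v = v + y₁ • z + y₂ • u) (hx : x ≠ 0) :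
    ∃ (c : SU 3 F q) (l b : F), l ≠ 0 ∧ b ≠ 0 ∧ act c u = l • v ∧
      hermForm 3 F q (act c v) v = (l ^ q)⁻¹ ∧ hermForm 3 F q (act c v) u = b * l ∧
      c * c * c = 1 ∧ (g * c) * (g * c) * (g * c) = 1 := by
  have htwo : (2 : F) = 0 := CharTwo.two_eq_zero
  have hy1 : y₁ = x ^ q := by
    have h1 := act_form g v z
    rw [hgv, hgz, h.vz hF] at h1
    simp only [hermForm_add_left, hermForm_add_right hF, hermForm_smul_left, hermForm_smul_right, h.hyp.1,
      h.vu hF, h.zz, h.uz hF, h.zu, h.vz hF] at h1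
    linear_combination h1 - x ^ q * htwo
  have hy10 : y₁ ≠ 0 := by rw [hy1]; exact pow_ne_zero _ hx
  have hy2 : y₂ + y₂ ^ q = x * x ^ q := by
    have h1 := act_form g v v
    rw [hgv, h.hyp.2.1] at h1
    simp only [hermForm_add_left, hermForm_add_right hF, hermForm_smul_left, hermForm_smul_right, h.hyp.1,
      h.hyp.2.1, h.hyp.2.2, h.vu hF, h.zz, h.uz hF, h.zu, h.vz hF, h.zv] at h1
    rw [hy1, pow_q_pow_q hF] at h1
    linear_combination h1 - x ^ q * x * htwo
  have hy20 : y₂ ≠ 0 := by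
    intro h0
    rw [h0, zero_pow_q hF, add_zero] at hy2
    exact mul_ne_zero hx (pow_ne_zero _ hx) hy2.symm
  obtain ⟨l0, hl0⟩ := exists_cube_trace hF hq
  have hl00 : l0 ≠ 0 := by
    rintro rfl
    apply hl0
    rw [zero_pow three_ne_zero, zero_pow_q hF, sub_zero]
  obtain ⟨a, ha⟩ : ∃ a, a = y₂ / y₁ := ⟨_, rfl⟩
  have hay : a * y₁ = y₂ := by rw [ha, div_mul_cancel₀ _ hy10]
  have ha0 : a ≠ 0 := by rw [ha]; exact div_ne_zero hy20 hy10
  obtain ⟨N, hN⟩ : ∃ N, N = l0 * l0 ^ q := ⟨_, rfl⟩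
  have hNq : N ^ q = N := by rw [hN, mul_pow, pow_q_pow_q hF, mul_comm]
  have hN0 : N ≠ 0 := by rw [hN]; exact mul_ne_zero hl00 (pow_ne_zero _ hl00)
  obtain ⟨T, hT⟩ : ∃ T, T = l0 ^ 3 - (l0 ^ 3) ^ q := ⟨_, rfl⟩
  have hT0 : T ≠ 0 := by rw [hT]; exact hl0
  have hTq : T ^ q = T := by
    rw [hT, sub_pow_q hF, pow_q_pow_q hF]
    linear_combination ((l0 ^ 3) ^ q - l0 ^ 3) * htwo
  obtain ⟨ν, hν⟩ : ∃ ν, ν = a * a ^ q := ⟨_, rfl⟩
  have hνq : ν ^ q = ν := by rw [hν, mul_pow, pow_q_pow_q hF, mul_comm]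
  have hν0 : ν ≠ 0 := by rw [hν]; exact mul_ne_zero ha0 (pow_ne_zero _ ha0)
  obtain ⟨s, hs⟩ : ∃ s, s = T / (ν * N ^ 2) := ⟨_, rfl⟩
  have hs0 : s ≠ 0 := by rw [hs]; exact div_ne_zero hT0 (mul_ne_zero hν0 (pow_ne_zero _ hN0))
  have hsq : s ^ q = s := by
    have h1 : (N ^ 2) ^ q = N ^ 2 := by rw [← pow_mul, mul_comm, pow_mul, hNq]
    rw [hs, div_pow, mul_pow, hTq, hνq, h1]
  have hsT : s * (ν * N ^ 2) = T := by
    rw [hs, div_mul_cancel₀ _ (mul_ne_zero hν0 (pow_ne_zero _ hN0))]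
  obtain ⟨l, hl⟩ : ∃ l, l = s * l0 := ⟨_, rfl⟩
  have hlne : l ≠ 0 := by rw [hl]; exact mul_ne_zero hs0 hl00
  have hlq : l ^ q = s * l0 ^ q := by rw [hl, mul_pow, hsq]
  have hlq0 : l ^ q ≠ 0 := pow_ne_zero _ hlne
  obtain ⟨b, hb⟩ : ∃ b, b = l ^ q / l ^ 2 := ⟨_, rfl⟩
  have hb0 : b ≠ 0 := by rw [hb]; exact div_ne_zero hlq0 (pow_ne_zero _ hlne)
  have hbq : b + b ^ q = ν := by
    have e1 : b ^ q = l / (l ^ q) ^ 2 := by
      rw [hb, div_pow, pow_q_pow_q hF]
      congr 1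
      rw [← pow_mul, ← pow_mul, mul_comm]
    have e2 : (l ^ q) ^ 3 + l ^ 3 = ν * (l ^ 2 * (l ^ q) ^ 2) := by
      have e3 : (l0 ^ 3) ^ q = (l0 ^ q) ^ 3 := by rw [← pow_mul, ← pow_mul, mul_comm]
      rw [e3] at hT
      rw [hlq, hl]
      rw [hN, hT] at hsT
      linear_combination -(s ^ 3) * hsT + s ^ 3 * (l0 ^ q) ^ 3 * htwo
    rw [e1, hb]
    field_simp
    linear_combination e2
  have hbl : b * l = l ^ q / l := by rw [hb]; field_simp
  -- the elements
  obtain ⟨U, hU⟩ := exists_eich hF u (a ^ q • z) b h.hyp.1 (by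
    rw [hermForm_smul_right, h.uz hF, mul_zero]) (by
    rw [hermForm_smul_left, hermForm_smul_right, h.zz, pow_q_pow_q hF, hbq, hν]
    linear_combination a * a ^ q * htwo)
  obtain ⟨D, hDu, hDv, hDz⟩ := exists_D hF h hlne
  have hiso : hermForm 3 F q (u + v) (u + v) = 0 := by
    simp only [hermForm_add_left, hermForm_add_right hF, h.hyp.1, h.hyp.2.1, h.hyp.2.2, h.vu hF]
    linear_combination htwo
  obtain ⟨J, -, hJ⟩ := exists_transv hF (a := (1 : F)) hiso (by
    rw [one_pow]; linear_combination htwo)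
  have hJu : act J u = v := by
    rw [hJ, hermForm_add_right hF, h.hyp.1, h.hyp.2.2, zero_add, mul_one, one_smul]
    have : u + (u + v) = (2 : F) • u + v := by module
    rw [this, htwo, zero_smul, zero_add]
  have hJv : act J v = u := by
    rw [hJ, hermForm_add_right hF, h.hyp.2.1, h.vu hF, add_zero, mul_one, one_smul]
    have : v + (u + v) = (2 : F) • v + u := by module
    rw [this, htwo, zero_smul, zero_add]
  have hJz : act J z = z := by
    rw [hJ, hermForm_add_right hF, h.zu, h.zv]; simp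
  have hUu : act U u = u := by
    rw [hU, h.hyp.1, hermForm_smul_right, h.uz hF]; simp
  have hUz : act U z = z - a • u := by
    rw [hU, h.zu, hermForm_smul_right, h.zz, pow_q_pow_q hF]; simp
  have hUv : act U v = v + a ^ q • z + b • u := by
    rw [hU, h.vu hF, hermForm_smul_right, h.vz hF]; simp
  obtain ⟨μ, hμ⟩ : ∃ μ, μ = l ^ q / l := ⟨_, rfl⟩
  rw [← hμ] at hDz hbl
  obtain ⟨ρ, hρ⟩ : ∃ ρ, ρ = (l ^ q)⁻¹ := ⟨_, rfl⟩
  rw [← hρ] at hDv
  have hcu : act (J * D * U) u = l • v := by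
    rw [act_mul, act_mul, hUu, hDu, act_smul, hJu]
  have hcz : act (J * D * U) z = μ • z - (a * l) • v := by
    rw [act_mul, act_mul, hUz, act_sub, act_smul, hDz, hDu, act_sub, act_smul, act_smul, act_smul, hJz, hJu,
      smul_smul]
  have hcv : act (J * D * U) v = ρ • u + (a ^ q * μ) • z + (b * l) • v := by
    rw [act_mul, act_mul, hUv]
    simp only [act_add, act_smul, hDv, hDz, hDu, hJv, hJz, hJu, smul_smul]
  refine ⟨J * D * U, l, b, hlne, hb0, hcu, ?_, ?_, ?_, ?_⟩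
  · rw [hcv]
    simp only [hermForm_add_left, hermForm_smul_left, h.hyp.2.2, h.zv, h.hyp.2.1]
    rw [hρ]; ring
  · rw [hcv]
    simp only [hermForm_add_left, hermForm_smul_left, h.hyp.1, h.zu, h.vu hF]
    ring
  · apply cube_of_trace hF
    rw [trace_fr hF h, hcu, hcz, hcv]
    simp only [hermForm_add_left, hermForm_sub_left, hermForm_smul_left, h.hyp.1, h.hyp.2.1, h.zu,
      h.zz, h.vu hF, h.vz hF]
    linear_combination hbl + μ * htwo
  · apply cube_of_trace hF
    have k1 : act (g * (J * D * U)) u = l • (v + y₁ • z + y₂ • u) := by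
      rw [act_mul, hcu, act_smul, hgv]
    have k2 : act (g * (J * D * U)) z = μ • (z + x • u) - (a * l) • (v + y₁ • z + y₂ • u) := by
      rw [act_mul, hcz, act_sub, act_smul, act_smul, hgz, hgv]
    have k3 : act (g * (J * D * U)) v =
        ρ • u + (a ^ q * μ) • (z + x • u) + (b * l) • (v + y₁ • z + y₂ • u) := by
      rw [act_mul, hcv, act_add, act_add, act_smul, act_smul, act_smul, hgz, hgv, hgu]
    rw [trace_fr hF h, k1, k2, k3]
    simp only [hermForm_add_left, hermForm_sub_left, hermForm_smul_left, h.hyp.1, h.hyp.2.1, h.hyp.2.2, h.zu, h.zv,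
      h.zz, h.vu hF, h.vz hF, h.uz hF]
    linear_combination hbl + μ * htwo - l * hay

variable {A : Subgroup (SU 3 F q)} {u : Fin 3 → F}

/-- elements of `A` fixing `u` are transvections -/
theorem point_case_unip [CharP F 2] (hq : 3 ≤ q) (hu : Iso q u) (hsc : Subgroup.center (SU 3 F q) ≤ A)
    (hE : ∀ g ∈ A, ∃ a : F, act g u = a • u ∧ a ^ (q + 1) = 1 ∧ a ^ 3 = 1)
    (hK : KP A) {g : SU 3 F q} (hgA : g ∈ A) (hgu : act g u = u) : ∃ s, IsEich g u 0 s := by
  obtain ⟨v, z, h⟩ := exists_fr hF hu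
  obtain ⟨-, x, y₁, y₂, hgz, hgv⟩ := borel hF h (g := g) (a := 1) (by rw [hgu, one_smul])
  rw [one_pow, div_one, one_smul] at hgz
  rw [one_pow, inv_one, one_smul] at hgv
  by_cases hx : x = 0
  · -- `g` fixes `u^⊥`
    rw [hx, zero_smul, add_zero] at hgz
    apply eich_of_fix_perp hF hu
    intro y hy
    have hyu : hermForm 3 F q y u = 0 := (hermForm_eq_zero_comm hF).1 hy
    have hye := h.expand hF y
    rw [hyu, zero_smul, add_zero] at hye
    rw [hye, act_add, act_smul, act_smul, hgu, hgz]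
  exfalso
  obtain ⟨c, l, b, hl, hb, hcu, hcv, hcv', hc3, hgc3⟩ := exists_three hF hq h hgu hgz hgv hx
  have hlq : l ^ q ≠ 0 := pow_ne_zero _ hl
  -- `c⁻¹ = c * c`
  have hcinv : c⁻¹ = c * c := inv_eq_of_mul_eq_one_left hc3
  obtain ⟨y, hy⟩ : ∃ y, y = c * c * g * (c * c)⁻¹ := ⟨_, rfl⟩
  obtain ⟨G, hG, hGK⟩ := hK y
  -- eigenvalues
  have f1 : (c * c)⁻¹ * G * (c * c) ∈ A := by
    apply hGK _ 1 A.one_mem
    have : (c * c)⁻¹ * (y * 1) * (c * c) = g := by rw [hy]; group
    rwa [this]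
  have f2 : c⁻¹ * G * c ∈ A := by
    apply hGK _ g hgA
    have e1 : c⁻¹ * (y * g) * c = g⁻¹ := by
      have e2 : g * c * g * c * g * c = 1 := by rw [← hgc3]; group
      rw [hy, mul_inv_rev, hcinv]
      calc c * c * (c * c * g * (c * c * (c * c)) * g) * c = (c * c * c) * c * g * (c * c * c) * c * g * c := by
            group
        _ = g⁻¹ * (g * c * g * c * g * c) := by rw [hc3]; group
        _ = g⁻¹ := by rw [e2, mul_one]
    rw [e1]; exact A.inv_mem hgA
  obtain ⟨m1, e1, n1, o1⟩ := hE _ f1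
  obtain ⟨m2, e2, n2, o2⟩ := hE _ f2
  have m10 : m1 ≠ 0 := by
    rintro rfl
    rw [zero_pow three_ne_zero] at o1
    exact zero_ne_one o1
  have m20 : m2 ≠ 0 := by
    rintro rfl
    rw [zero_pow three_ne_zero] at o2
    exact zero_ne_one o2
  have e1' : act G (act c (act c u)) = m1 • act c (act c u) := by
    rw [act_mul, act_mul, act_mul] at e1
    have := congrArg (act (c * c)) e1
    rwa [act_act_inv, act_smul, act_mul] at this
  have e2' : act G (act c u) = m2 • act c u := by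
    rw [act_mul, act_mul] at e2
    have := congrArg (act c) e2
    rwa [act_act_inv, act_smul] at this
  -- `<cu, ccu> ≠ 0`
  have hf1 : hermForm 3 F q (act c u) (act c (act c u)) = l ^ q := by
    rw [act_form, hcu, hermForm_smul_right, h.hyp.2.2, mul_one]
  have hmm : m1 = m2 := by
    have h1 := act_form G (act c u) (act c (act c u))
    rw [e1', e2', hermForm_smul_left, hermForm_smul_right, hf1] at h1
    have h2 : (m2 * m1 ^ q - 1) * l ^ q = 0 := by linear_combination h1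
    have h3 := sub_eq_zero.1 ((mul_eq_zero.1 h2).resolve_right hlq)
    have h4 : m1 * m1 ^ q = 1 := by rw [← pow_succ']; exact n1
    exact (mul_right_cancel₀ (pow_ne_zero q m10) (h3.trans h4.symm)).symm
  -- `G` is a scalar
  have hui : Iso q (act c u) := hu.act c
  have huii : Iso q (act c (act c u)) := hui.act c
  have hHyp : Hyp q (act c u) (l⁻¹ • act c (act c u)) := by
    refine ⟨hui.2, (huii.smul hF (inv_ne_zero hl)).2, ?_⟩
    rw [hermForm_smul_right, hf1, inv_pow, inv_mul_cancel₀ hlq]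
  obtain ⟨z', hz'⟩ := exists_fr_of_hyp hF hHyp
  obtain ⟨-, -, hGz'⟩ := diag_eq hF hz' (k := G) (a := m2) (b := m2) e2' (by
    rw [act_smul, e1', hmm, smul_comm])
  have hm2 : m2 ^ q / m2 = m2 := by
    have h1 : m2 ^ q * m2 = 1 := by rw [← pow_succ]; exact n2
    rw [eq_inv_of_mul_eq_one_left h1]
    have h2 : m2 * m2 * m2 = 1 := by rw [← o2]; ring
    field_simp
    linear_combination -h2
  rw [hm2] at hGz'
  have hGs : ∀ x, act G x = m2 • x := by
    intro x
    conv_lhs => rw [hz'.expand hF x]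
    conv_rhs => rw [hz'.expand hF x]
    simp only [act_add, act_smul, hGz', e2', e1', hmm]
    module
  have hGA : G ∈ A := hsc (mem_center_of_scalar hF (by norm_num) hGs)
  have hyA : y ∈ A := by
    have h3 := A.mul_mem hGA (A.inv_mem hG)
    have h4 : G * (y⁻¹ * G)⁻¹ = y := by group
    rwa [h4] at h3
  obtain ⟨m, e3, n3, o3⟩ := hE _ hyA
  have hyc : act y (act c (act c u)) = act c (act c u) := by
    have : y * (c * c) = c * c * g := by rw [hy]; group
    rw [← act_mul c c, ← act_mul y, this, act_mul, hgu]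
  -- `<ccu, u> ≠ 0`
  have hf2 : hermForm 3 F q (act c (act c u)) u = l * (b * l) := by
    rw [hcu, act_smul, hermForm_smul_left, hcv']
  have hf20 : l * (b * l) ≠ 0 := mul_ne_zero hl (mul_ne_zero hb hl)
  have hm1' : m = 1 := by
    have h1 := act_form y (act c (act c u)) u
    rw [hyc, e3, hermForm_smul_right, hf2] at h1
    have h2 : (m ^ q - 1) * (l * (b * l)) = 0 := by linear_combination h1
    have h3 := sub_eq_zero.1 ((mul_eq_zero.1 h2).resolve_right hf20)
    rw [← pow_q_inj hF, h3, one_pow]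
  rw [hm1', one_smul] at e3
  -- `y = 1`
  have hHyp2 : Hyp q u (((l * (b * l)) ^ q)⁻¹ ^ q • act c (act c u)) := by
    refine ⟨hu.2, (huii.smul hF (pow_ne_zero _ (inv_ne_zero (pow_ne_zero _ hf20)))).2, ?_⟩
    rw [hermForm_smul_right, pow_q_pow_q hF, ← hermForm_symm hF, hf2, inv_mul_cancel₀ (pow_ne_zero _ hf20)]
  have hy1 : y = 1 := fix2 hF hHyp2 e3 (by rw [act_smul, hyc])
  have hg1 : g = 1 := by
    have : g = (c * c)⁻¹ * y * (c * c) := by rw [hy]; group
    rw [this, hy1]; group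
  rw [hg1, act_one] at hgz
  have : x • u = 0 := left_eq_add.1 hgz
  rcases smul_eq_zero.1 this with h0 | h0
  · exact hx h0
  · exact hu.1 h0

/-- The point case: only transvections and scalars are left. -/
theorem point_case [CharP F 2] (hq : 3 ≤ q) (hu : Iso q u) (hsc : Subgroup.center (SU 3 F q) ≤ A)
    (hT : ∀ (g : SU 3 F q) (s : F), IsEich g u 0 s → g ∈ A) (h1 : ∀ g ∈ A, ∃ κ : F, act g u = κ • u)
    (hK : KP A) {g : SU 3 F q} (hgA : g ∈ A) :
    ∃ (k : SU 3 F q) (s : F), IsEich k u 0 s ∧ toPSU 3 F q k = toPSU 3 F q g := by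
  have hE : ∀ g ∈ A, ∃ a : F, act g u = a • u ∧ a ^ (q + 1) = 1 ∧ a ^ 3 = 1 := by
    intro g hg
    obtain ⟨a, ha⟩ := h1 g hg
    exact ⟨a, ha, point_case_norm hF hu hT h1 hK hg ha, point_case_cube hF hu hsc hT h1 hK hg ha⟩
  obtain ⟨a, ha, hN, h3⟩ := hE g hgA
  obtain ⟨v, z, h⟩ := exists_fr hF hu
  have ha0 : a ≠ 0 := by
    rintro rfl
    rw [zero_pow three_ne_zero] at h3
    exact zero_ne_one h3
  obtain ⟨D, hDu, hDv, hDz⟩ := exists_D hF h ha0
  have haa : a ^ q = a⁻¹ := eq_inv_of_mul_eq_one_left (by rw [← pow_succ]; exact hN)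
  have h3' : a * a * a = 1 := by rw [← h3]; ring
  have hDs : ∀ x, act D x = a • x := by
    have e1 : (a ^ q)⁻¹ = a := by rw [haa, inv_inv]
    have e2 : a ^ q / a = a := by
      rw [haa]; field_simp; linear_combination -h3'
    rw [e1] at hDv
    rw [e2] at hDz
    intro x
    conv_lhs => rw [h.expand hF x]
    conv_rhs => rw [h.expand hF x]
    rw [act_add, act_add, act_smul, act_smul, act_smul, hDu, hDv, hDz]
    module
  have hDc := mem_center_of_scalar hF (by norm_num) hDs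
  obtain ⟨s, hs⟩ := point_case_unip hF hq hu hsc hE hK (g := D⁻¹ * g) (A.mul_mem (A.inv_mem (hsc hDc)) hgA) (by
    rw [act_mul, ha, ← hDu, act_inv_act])
  refine ⟨_, s, hs, ?_⟩
  rw [map_mul, map_inv]
  have : toPSU 3 F q D = 1 := (QuotientGroup.eq_one_iff _).2 hDc
  rw [this, inv_one, one_mul]

end

end Cfsg.Agent.BinInv
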