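import Cfsg.Agent.BinInv.Gen
import Cfsg.Agent.PSU3Id.FullG
import Cfsg.Agent.AutPSU.Ext

/-!
# Elements of `SU₃(q)`
-/

set_option autoImplicit false

namespace Cfsg.Agent.BinInv

open Cfsg Cfsg.Agent.Uni Cfsg.Agent.AutPSU Cfsg.Agent.H38.PSU3 Cfsg.Agent.PSU3Id.MG

variable {F : Type*} [Field F] [Fintype F] {q : ℕ}

section

variable (hF : Fintype.card F = q ^ 2)
include hF

theorem exists_su {g : GU 3 F q} (h : ((detHom hF 3 g : Fˣ) : F) = 1) :
    ∃ k : SU 3 F q, suToGU hF 3 k = g := by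
  have : g ∈ (detHom hF 3).ker := MonoidHom.mem_ker.2 (Subtype.ext (Units.ext h))
  rw [← suToGU_range] at this
  exact this

theorem det_su (k : SU 3 F q) : ((detHom hF 3 (suToGU hF 3 k) : Fˣ) : F) = 1 := by
  have : suToGU hF 3 k ∈ (detHom hF 3).ker := by
    rw [← suToGU_range]; exact ⟨k, rfl⟩
  rw [MonoidHom.mem_ker] at this
  rw [this]; rfl

theorem det_mul' (g k : GU 3 F q) : ((detHom hF 3 (g * k) : Fˣ) : F) =
    ((detHom hF 3 g : Fˣ) : F) * ((detHom hF 3 k : Fˣ) : F) := by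
  rw [map_mul]; rfl

theorem det_norm' (g : GU 3 F q) : ((detHom hF 3 g : Fˣ) : F) ^ (q + 1) = 1 := by
  rw [detHom_coe]
  exact (GU_pres g).det_norm hF

/-- correction of the determinant -/
theorem exists_fix_det (g : GU 3 F q) {w : Fin 3 → F} (hw : hermForm 3 F q w w = 1) :
    ∃ (k : SU 3 F q) (δ : F), δ ^ (q + 1) = 1 ∧
      ∀ x, act k x = gact g x + ((δ - 1) * hermForm 3 F q (gact g x) w) • w := by
  have hd := det_norm' hF g
  have hd0 : ((detHom hF 3 g : Fˣ) : F) ≠ 0 := Units.ne_zero _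
  obtain ⟨r, hr, hrd⟩ := exists_grefl hF hw (a := (((detHom hF 3 g : Fˣ) : F))⁻¹) (by
    rw [inv_pow, hd, inv_one])
  obtain ⟨k, hk⟩ := exists_su hF (g := r * g) (by rw [det_mul', hrd, inv_mul_cancel₀ hd0])
  refine ⟨k, _, by rw [inv_pow, hd, inv_one], fun x => ?_⟩
  rw [← gact_suToGU hF, hk, gact_mul, hr]

/-- a unit vector orthogonal to an isotropic vector -/
theorem exists_unit_perp {u : Fin 3 → F} (hu : Iso q u) :
    ∃ w, hermForm 3 F q w w = 1 ∧ hermForm 3 F q u w = 0 := by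
  obtain ⟨v, z, h⟩ := exists_fr hF hu
  exact ⟨z, h.zz, h.uz hF⟩

theorem trans_iso {u x : Fin 3 → F} (hu : Iso q u) (hx : Iso q x) : ∃ a : SU 3 F q, act a u = x := by
  obtain ⟨g, hg⟩ := exists_GU_of_family hF (x := fun _ : Fin 1 => u) (y := fun _ : Fin 1 => x)
    (linearIndependent_unique_iff.2 hu.1) (linearIndependent_unique_iff.2 hx.1) (fun _ _ => by
      rw [hu.2]; exact hx.2.symm)
  have hg' : gact g u = x := hg 0
  obtain ⟨w, hw, hxw⟩ := exists_unit_perp hF hx
  obtain ⟨k, δ, -, hk⟩ := exists_fix_det hF g hw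
  exact ⟨k, by rw [hk, hg', hxw, mul_zero, zero_smul, add_zero]⟩

theorem trans_flag {e e' u x : Fin 3 → F} (he : hermForm 3 F q e e = 1) (he' : hermForm 3 F q e' e' = 1)
    (hu : Iso q u) (hx : Iso q x) (hue : hermForm 3 F q u e = 0) (hxe : hermForm 3 F q x e' = 0) :
    ∃ (a : SU 3 F q) (δ : F), δ ^ (q + 1) = 1 ∧ act a e = δ • e' ∧ act a u = x := by
  have hli : ∀ e u : Fin 3 → F, hermForm 3 F q e e = 1 → Iso q u → hermForm 3 F q u e = 0 →
      LinearIndependent F ![e, u] := by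
    intro e u he hu hue
    rw [LinearIndependent.pair_iff]
    intro s t hst
    have h1 : hermForm 3 F q (s • e + t • u) e = 0 := by rw [hst, hermForm_zero_left]
    rw [hermForm_add_left, hermForm_smul_left, hermForm_smul_left, he, hue, mul_zero, add_zero, mul_one] at h1
    rw [h1, zero_smul, zero_add] at hst
    exact ⟨h1, (smul_eq_zero.1 hst).resolve_right hu.1⟩
  have heu := (hermForm_eq_zero_comm hF).1 hue
  have hex := (hermForm_eq_zero_comm hF).1 hxe
  obtain ⟨g, hg⟩ := exists_GU_of_family hF (x := ![e, u]) (y := ![e', x]) (hli e u he hu hue)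
    (hli e' x he' hx hxe) (by
      intro i j
      fin_cases i <;> fin_cases j
      · exact he.trans he'.symm
      · exact heu.trans hex.symm
      · exact hue.trans hxe.symm
      · exact hu.2.trans hx.2.symm)
  have h0 : gact g e = e' := hg 0
  have h1 : gact g u = x := hg 1
  obtain ⟨k, δ, hδ, hk⟩ := exists_fix_det hF g he'
  refine ⟨k, δ, hδ, ?_, ?_⟩
  · rw [hk, h0, he', mul_one, sub_smul, one_smul]; abel
  · rw [hk, h1, hxe, mul_zero, zero_smul, add_zero]

/-- completing a hyperbolic pair to a frame -/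
theorem exists_fr_of_hyp {u v : Fin 3 → F} (hv : Hyp q u v) : ∃ z, Fr q u v z := by
  have hfr : Module.finrank F (perp q (Submodule.span F {u, v})) = 1 := hv.finrank_perp hF
  obtain ⟨⟨z, hz⟩, hz0, hzs⟩ := finrank_eq_one_iff'.1 hfr
  obtain ⟨hzu, hzv⟩ := (Hyp.mem_perp_iff hF).1 hz
  have hz0' : z ≠ 0 := fun h => hz0 (Subtype.ext h)
  have hzz : hermForm 3 F q z z ≠ 0 := fun h0 => hz0' (eq_zero_of_perp hF hv hzu hzv h0)
  obtain ⟨c, hc, -, hc1⟩ := exists_unit_of_ne_zero hF ⊤ (Submodule.mem_top (x := z)) hzz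
  refine ⟨c • z, hv, hc1, ?_, ?_⟩
  · rw [hermForm_smul_left, hzu, mul_zero]
  · rw [hermForm_smul_left, hzv, mul_zero]

theorem fr_ext {u v z : Fin 3 → F} (h : Fr q u v z) {g k : SU 3 F q} (h1 : act g u = act k u)
    (h2 : act g v = act k v) (h3 : act g z = act k z) : g = k := by
  apply suToGU_injective hF
  exact h.ext hF h1 h2 h3

theorem fix2 {u v : Fin 3 → F} (hv : Hyp q u v) {k : SU 3 F q} (hku : act k u = u) (hkv : act k v = v) :
    k = 1 := by
  obtain ⟨z, h⟩ := exists_fr_of_hyp hF hv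
  have e1 : hermForm 3 F q (act k z) u = 0 := by
    have := act_form k z u
    rwa [hku, h.zu] at this
  have e2 : hermForm 3 F q (act k z) v = 0 := by
    have := act_form k z v
    rwa [hkv, h.zv] at this
  have e3 := h.expand hF (act k z)
  rw [e1, e2, zero_smul, zero_smul, zero_add, zero_add] at e3
  obtain ⟨γ, hγ⟩ : ∃ γ, γ = hermForm 3 F q (act k z) z := ⟨_, rfl⟩
  rw [← hγ] at e3
  have hN : γ ^ (q + 1) = 1 := by
    have := act_form k z z
    rw [e3, hermForm_smul_left, hermForm_smul_right, h.zz, mul_one] at this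
    rw [pow_succ']; exact this
  obtain ⟨r, hr, hrd⟩ := exists_grefl hF h.zz hN
  have hkr : suToGU hF 3 k = r := by
    apply h.ext hF
    · rw [gact_suToGU, hku, hr, h.uz hF, mul_zero, zero_smul, add_zero]
    · rw [gact_suToGU, hkv, hr, h.vz hF, mul_zero, zero_smul, add_zero]
    · rw [gact_suToGU, e3, hr, h.zz, mul_one, sub_smul, one_smul]; abel
  have hd := det_su hF k
  rw [hkr, hrd] at hd
  apply fr_ext hF h
  · rw [hku, act_one]
  · rw [hkv, act_one]
  · rw [e3, hd, one_smul, act_one]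

/-- diagonal elements -/
theorem exists_D {u v z : Fin 3 → F} (h : Fr q u v z) {a : F} (ha : a ≠ 0) :
    ∃ d : SU 3 F q, act d u = a • u ∧ act d v = (a ^ q)⁻¹ • v ∧ act d z = (a ^ q / a) • z := by
  have haq : a ^ q ≠ 0 := pow_ne_zero _ ha
  obtain ⟨g, hg, hgd⟩ := exists_gtorus hF h.hyp ha
  obtain ⟨r, hr, hrd⟩ := exists_grefl hF h.zz (a := a ^ q / a) (by
    rw [div_pow, ← pow_mul, mul_comm, pow_mul, norm_pow_q hF, div_self (pow_ne_zero _ ha)])
  obtain ⟨k, hk⟩ := exists_su hF (g := g * r) (by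
    rw [det_mul', hgd, hrd]; field_simp)
  refine ⟨k, ?_, ?_, ?_⟩
  · rw [← gact_suToGU hF, hk, gact_mul, hr, h.uz hF, mul_zero, zero_smul, add_zero, hg, h.hyp.2.2, h.hyp.1]
    module
  · rw [← gact_suToGU hF, hk, gact_mul, hr, h.vz hF, mul_zero, zero_smul, add_zero, hg, h.hyp.2.1, h.vu hF]
    module
  · have e : gact r z = (a ^ q / a) • z := by rw [hr, h.zz]; module
    rw [← gact_suToGU hF, hk, gact_mul, e, hg, hermForm_smul_left, hermForm_smul_left, h.zu, h.zv]
    simp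

theorem diag_eq {u v z : Fin 3 → F} (h : Fr q u v z) {k : SU 3 F q} {a b : F} (hku : act k u = a • u)
    (hkv : act k v = b • v) : a ≠ 0 ∧ b = (a ^ q)⁻¹ ∧ act k z = (a ^ q / a) • z := by
  have ha : a ≠ 0 := by
    rintro rfl
    rw [zero_smul] at hku
    exact act_ne_zero h.hyp.left_ne hku
  have haq : a ^ q ≠ 0 := pow_ne_zero _ ha
  have hb : b = (a ^ q)⁻¹ := by
    have := act_form k v u
    rw [hku, hkv, hermForm_smul_left, hermForm_smul_right, h.vu hF, mul_one] at this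
    exact eq_inv_of_mul_eq_one_left this
  obtain ⟨d, hdu, hdv, hdz⟩ := exists_D hF h ha
  have h1 : d⁻¹ * k = 1 := by
    apply fix2 hF h.hyp
    · rw [act_mul, hku, ← hdu, act_inv_act]
    · rw [act_mul, hkv, hb, ← hdv, act_inv_act]
  rw [← inv_mul_eq_one.1 h1]
  exact ⟨ha, hb, hdz⟩

theorem mem_RR_of_fix {u : Fin 3 → F} (hu : Iso q u) {g : SU 3 F q} (hgu : act g u = u) : g ∈ RR hF hu := by
  obtain ⟨v, hv⟩ := exists_hyp' hF hu.1 hu.2
  set v' := act g v with hv'
  have hv'1 : hermForm 3 F q v' v' = 0 := by rw [hv', act_form, hv.2.1]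
  have huv' : hermForm 3 F q u v' = 1 := by
    have : hermForm 3 F q u v' = hermForm 3 F q (act g u) (act g v) := by rw [hgu]
    rw [this, act_form, hv.2.2]
  have hvu : hermForm 3 F q v u = 1 := (hv.symm hF).2.2
  have huw : hermForm 3 F q u (v' - v) = 0 := by
    rw [hermForm_sub_right hF, huv', hv.2.2, sub_self]
  have hs : hermForm 3 F q v v' + (hermForm 3 F q v v') ^ q = -hermForm 3 F q (v' - v) (v' - v) := by
    rw [hermForm_sub_left, hermForm_sub_right hF, hermForm_sub_right hF, hv'1, hv.2.1, hermForm_symm hF]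
    ring
  obtain ⟨h, hh⟩ := exists_eich hF u (v' - v) _ hu.2 huw hs
  have hhR : h ∈ RR hF hu := ⟨_, _, huw, hs, hh⟩
  have hhv : act h v = v' := by
    rw [hh v, hvu, hermForm_sub_right hF, hv.2.1]
    module
  have h1 : h⁻¹ * g = 1 := by
    apply fix2 hF hv
    · rw [act_mul, hgu]
      conv_lhs => rw [← RR_fix hF hu hhR]
      rw [act_inv_act]
    · rw [act_mul, ← hv', ← hhv, act_inv_act]
  rw [← inv_mul_eq_one.1 h1]
  exact hhR

/-- the structure of the stabiliser of a point -/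
theorem borel {u v z : Fin 3 → F} (h : Fr q u v z) {g : SU 3 F q} {a : F} (hgu : act g u = a • u) :
    a ≠ 0 ∧ ∃ x y₁ y₂ : F, act g z = (a ^ q / a) • z + x • u ∧
      act g v = (a ^ q)⁻¹ • v + y₁ • z + y₂ • u := by
  have hu : Iso q u := ⟨h.hyp.left_ne, h.hyp.1⟩
  have ha : a ≠ 0 := by
    rintro rfl
    rw [zero_smul] at hgu
    exact act_ne_zero h.hyp.left_ne hgu
  obtain ⟨d, hdu, hdv, hdz⟩ := exists_D hF h ha
  have h1 : d⁻¹ * g ∈ RR hF hu := by
    apply mem_RR_of_fix hF hu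
    rw [act_mul, hgu, ← hdu, act_inv_act]
  obtain ⟨w, s, hw, hs, hE⟩ := h1
  have hwu : hermForm 3 F q w u = 0 := (hermForm_eq_zero_comm hF).1 hw
  have hwe := h.expand hF w
  rw [hwu, zero_smul, add_zero] at hwe
  have hg : ∀ x, act g x = act d (act (d⁻¹ * g) x) := by
    intro x
    rw [← act_mul, mul_inv_cancel_left]
  have hz1 : act (d⁻¹ * g) z = z + (-(hermForm 3 F q z w)) • u := by
    rw [hE z, h.zu]; module
  have hv1 : act (d⁻¹ * g) v = v + (hermForm 3 F q w z) • z +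
      (hermForm 3 F q w v - hermForm 3 F q v w + s) • u := by
    rw [hE v, h.vu hF]
    conv_lhs => rw [hwe]
    have e : hermForm 3 F q v (hermForm 3 F q w v • u + hermForm 3 F q w z • z) = hermForm 3 F q v w := by
      rw [← hwe]
    rw [e]
    module
  refine ⟨ha, -(hermForm 3 F q z w) * a, hermForm 3 F q w z * (a ^ q / a),
    (hermForm 3 F q w v - hermForm 3 F q v w + s) * a, ?_, ?_⟩
  · rw [hg, hz1, act_add, act_smul, hdz, hdu, smul_smul]
  · rw [hg, hv1, act_add, act_add, act_smul, act_smul, hdv, hdz, hdu, smul_smul, smul_smul]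

end

end Cfsg.Agent.BinInv
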