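import Cfsg.Agent.BinInv.Tools

/-!
# Elements of `SU₃(q)`: traces and orthonormal bases
-/

set_option autoImplicit false
set_option linter.unusedSectionVars false

namespace Cfsg.Agent.BinInv

open Cfsg Cfsg.Agent.Uni Cfsg.Agent.AutPSU Cfsg.Agent.H38.PSU3 Cfsg.Agent.PSU3Id.MG

theorem cube_matrix {F : Type*} [Field F] (M : Matrix (Fin 3) (Fin 3) F) :
    M * M * M = M.trace • (M * M) - M.adjugate.trace • M + M.det • (1 : Matrix (Fin 3) (Fin 3) F) := by
  have e : ∀ i j, (M * M * M) i j =
      (M.trace • (M * M) - M.adjugate.trace • M + M.det • (1 : Matrix (Fin 3) (Fin 3) F)) i j := by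
    intro i j
    rw [Matrix.add_apply, Matrix.sub_apply, Matrix.smul_apply, Matrix.smul_apply, Matrix.smul_apply,
      Matrix.trace_fin_three, Matrix.trace_fin_three, Matrix.det_fin_three, Matrix.adjugate_fin_three]
    fin_cases i <;> fin_cases j <;>
      simp [Matrix.mul_apply, Fin.sum_univ_three] <;> ring
  ext i j
  exact e i j

variable {F : Type*} [Field F] [Fintype F] {q : ℕ}

section

variable (hF : Fintype.card F = q ^ 2)
include hF

/-- elements of trace zero have order three -/
theorem cube_of_trace {g : SU 3 F q}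
    (h : ((g : Matrix.SpecialLinearGroup (Fin 3) F) : Matrix (Fin 3) (Fin 3) F).trace = 0) :
    g * g * g = 1 := by
  set M := ((g : Matrix.SpecialLinearGroup (Fin 3) F) : Matrix (Fin 3) (Fin 3) F) with hM
  have hdet : M.det = 1 := Matrix.SpecialLinearGroup.det_coe _
  have h1 := (SU_pres g).transpose_mul hF
  rw [← hM] at h1
  have h2 : (M.map (conjHom hF)).transpose * M = 1 := by
    have := congrArg Matrix.transpose h1
    rwa [Matrix.transpose_mul, Matrix.transpose_transpose, Matrix.transpose_one] at this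
  have h3 : M.adjugate = (M.map (conjHom hF)).transpose := by
    calc M.adjugate = ((M.map (conjHom hF)).transpose * M) * M.adjugate := by rw [h2, one_mul]
      _ = (M.map (conjHom hF)).transpose * (M * M.adjugate) := by rw [mul_assoc]
      _ = _ := by rw [Matrix.mul_adjugate, hdet, one_smul, mul_one]
  have h4 : M.adjugate.trace = 0 := by
    rw [h3, Matrix.trace_transpose]
    have e : (M.map (conjHom hF)).trace = (conjHom hF) M.trace := by
      rw [Matrix.trace, Matrix.trace, map_sum]
      rfl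
    rw [e, h, map_zero]
  have h5 := cube_matrix M
  rw [h4, h, hdet, zero_smul, zero_smul, one_smul, sub_zero, zero_add] at h5
  apply SU_ext
  rw [SU_coe_mul, SU_coe_mul, ← hM, h5]
  rfl

/-- the trace in a frame -/
theorem trace_fr {u v z : Fin 3 → F} (h : Fr q u v z) (g : SU 3 F q) :
    ((g : Matrix.SpecialLinearGroup (Fin 3) F) : Matrix (Fin 3) (Fin 3) F).trace =
      hermForm 3 F q (act g u) v + hermForm 3 F q (act g v) u + hermForm 3 F q (act g z) z := by
  set M := ((g : Matrix.SpecialLinearGroup (Fin 3) F) : Matrix (Fin 3) (Fin 3) F) with hM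
  have h1 : ∀ i : Fin 3, M i i = hermForm 3 F q (act g (Pi.single i 1)) (Pi.single i 1) := by
    intro i
    rw [hermForm_single_right' hF, act_def, mulVec_single_one']
  have h2 : ∀ i : Fin 3, M i i = (v i) ^ q * (act g u) i + (u i) ^ q * (act g v) i +
      (z i) ^ q * (act g z) i := by
    intro i
    have e := h.expand hF (Pi.single i 1)
    rw [hermForm_single_left, hermForm_single_left, hermForm_single_left] at e
    rw [h1, hermForm_single_right' hF]
    conv_lhs => rw [e]
    rw [act_add, act_add, act_smul, act_smul, act_smul]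
    rfl
  rw [Matrix.trace_fin_three, h2, h2, h2, hermForm_def, hermForm_def, hermForm_def,
    Fin.sum_univ_three, Fin.sum_univ_three, Fin.sum_univ_three]
  ring

end

/-- orthonormal bases -/
structure On (q : ℕ) (a b c : Fin 3 → F) : Prop where
  aa : hermForm 3 F q a a = 1
  bb : hermForm 3 F q b b = 1
  cc : hermForm 3 F q c c = 1
  ab : hermForm 3 F q a b = 0
  ac : hermForm 3 F q a c = 0
  bc : hermForm 3 F q b c = 0

theorem On.isON (hF : Fintype.card F = q ^ 2) {a b c : Fin 3 → F} (h : On q a b c) : Uni.IsON q ![a, b, c] := by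
  have ba := (hermForm_eq_zero_comm hF).1 h.ab
  have ca := (hermForm_eq_zero_comm hF).1 h.ac
  have cb := (hermForm_eq_zero_comm hF).1 h.bc
  intro i j
  fin_cases i <;> fin_cases j
  · exact h.aa
  · exact h.ab
  · exact h.ac
  · exact ba
  · exact h.bb
  · exact h.bc
  · exact ca
  · exact cb
  · exact h.cc

section

variable (hF : Fintype.card F = q ^ 2)
include hF

theorem On.ba {a b c : Fin 3 → F} (h : On q a b c) : hermForm 3 F q b a = 0 :=
  (hermForm_eq_zero_comm hF).1 h.ab
theorem On.ca {a b c : Fin 3 → F} (h : On q a b c) : hermForm 3 F q c a = 0 :=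
  (hermForm_eq_zero_comm hF).1 h.ac
theorem On.cb {a b c : Fin 3 → F} (h : On q a b c) : hermForm 3 F q c b = 0 :=
  (hermForm_eq_zero_comm hF).1 h.bc

theorem On.expand {a b c : Fin 3 → F} (h : On q a b c) (x : Fin 3 → F) :
    x = hermForm 3 F q x a • a + hermForm 3 F q x b • b + hermForm 3 F q x c • c := by
  have := (h.isON hF).sum_eq hF x
  rw [Fin.sum_univ_three] at this
  exact this.symm

theorem On.rot {a b c : Fin 3 → F} (h : On q a b c) : On q b c a :=
  ⟨h.bb, h.cc, h.aa, h.bc, h.ba hF, h.ca hF⟩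

theorem On.swap {a b c : Fin 3 → F} (h : On q a b c) : On q b a c :=
  ⟨h.bb, h.aa, h.cc, h.ba hF, h.bc, h.ac⟩

theorem exists_on {a : Fin 3 → F} (ha : hermForm 3 F q a a = 1) : ∃ b c, On q a b c := by
  obtain ⟨b, hb, hbv⟩ := Uni.IsON.exists_complete hF (k := 1) (n := 3) (v := fun _ => a)
    (fun i j => by rw [ha, if_pos (Subsingleton.elim i j)]) (by norm_num)
  have h0 : b 0 = a := hbv 0
  refine ⟨b 1, b 2, ha, ?_, ?_, ?_, ?_, ?_⟩
  · simpa using hb 1 1
  · simpa using hb 2 2
  · rw [← h0]; simpa using hb 0 1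
  · rw [← h0]; simpa using hb 0 2
  · simpa using hb 1 2

theorem On.smul {a b c : Fin 3 → F} (h : On q a b c) {α β γ : F} (hα : α ^ (q + 1) = 1) (hβ : β ^ (q + 1) = 1)
    (hγ : γ ^ (q + 1) = 1) : On q (α • a) (β • b) (γ • c) := by
  rw [pow_succ'] at hα hβ hγ
  refine ⟨?_, ?_, ?_, ?_, ?_, ?_⟩
  · rw [hermForm_smul_left, hermForm_smul_right, h.aa, mul_one, hα]
  · rw [hermForm_smul_left, hermForm_smul_right, h.bb, mul_one, hβ]
  · rw [hermForm_smul_left, hermForm_smul_right, h.cc, mul_one, hγ]
  · rw [hermForm_smul_left, hermForm_smul_right, h.ab, mul_zero, mul_zero]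
  · rw [hermForm_smul_left, hermForm_smul_right, h.ac, mul_zero, mul_zero]
  · rw [hermForm_smul_left, hermForm_smul_right, h.bc, mul_zero, mul_zero]

/-- moving orthonormal bases -/
theorem On.move {a b c a' b' c' : Fin 3 → F} (h : On q a b c) (h' : On q a' b' c') :
    ∃ (g : SU 3 F q) (δ : F), δ ^ (q + 1) = 1 ∧ act g a = a' ∧ act g b = b' ∧ act g c = δ • c' := by
  obtain ⟨g, hg⟩ := exists_GU_of_ON hF (h.isON hF) (h'.isON hF) le_rfl
  have h0 : gact g a = a' := hg 0
  have h1 : gact g b = b' := hg 1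
  have h2 : gact g c = c' := hg 2
  obtain ⟨k, δ, hδ, hk⟩ := exists_fix_det hF g h'.cc
  refine ⟨k, δ, hδ, ?_, ?_, ?_⟩
  · rw [hk, h0, h'.ac, mul_zero, zero_smul, add_zero]
  · rw [hk, h1, h'.bc, mul_zero, zero_smul, add_zero]
  · rw [hk, h2, h'.cc, mul_one, sub_smul, one_smul]; abel

theorem trans_unit {z w : Fin 3 → F} (hz : hermForm 3 F q z z = 1) (hw : hermForm 3 F q w w = 1) :
    ∃ a : SU 3 F q, act a z = w := by
  obtain ⟨b, c, h⟩ := exists_on hF hz
  obtain ⟨b', c', h'⟩ := exists_on hF hw
  obtain ⟨g, δ, -, hg, -⟩ := h.move hF h'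
  exact ⟨g, hg⟩

theorem On.ext {a b c : Fin 3 → F} (h : On q a b c) {g k : GU 3 F q} (h1 : gact g a = gact k a)
    (h2 : gact g b = gact k b) (h3 : gact g c = gact k c) : g = k := by
  apply gact_ext
  intro x
  rw [h.expand hF x]
  simp only [gact_add, gact_smul, h1, h2, h3]

theorem norm_of_act {g : SU 3 F q} {a : Fin 3 → F} (ha : hermForm 3 F q a a = 1) {α : F}
    (h : act g a = α • a) : α ^ (q + 1) = 1 := by
  have := act_form g a a
  rw [h, hermForm_smul_left, hermForm_smul_right, ha, mul_one] at this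
  rw [pow_succ']; exact this

/-- the determinant of a diagonal element -/
theorem On.det {a b c : Fin 3 → F} (h : On q a b c) {g : SU 3 F q} {α β γ : F} (h1 : act g a = α • a)
    (h2 : act g b = β • b) (h3 : act g c = γ • c) : α * β * γ = 1 := by
  have hα := norm_of_act hF h.aa h1
  have hβ := norm_of_act hF h.bb h2
  have hγ := norm_of_act hF h.cc h3
  obtain ⟨r1, e1, d1⟩ := exists_grefl hF h.aa hα
  obtain ⟨r2, e2, d2⟩ := exists_grefl hF h.bb hβ
  obtain ⟨r3, e3, d3⟩ := exists_grefl hF h.cc hγ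
  have k : suToGU hF 3 g = r1 * r2 * r3 := by
    apply h.ext hF
    · rw [gact_suToGU, h1, gact_mul, gact_mul, e3, h.ac, mul_zero, zero_smul, add_zero, e2, h.ab, mul_zero,
        zero_smul, add_zero, e1, h.aa]; module
    · rw [gact_suToGU, h2, gact_mul, gact_mul, e3, h.bc, mul_zero, zero_smul, add_zero, e2, h.bb, gact_add,
        gact_smul, e1, h.ba hF, mul_zero, zero_smul, add_zero]; module
    · rw [gact_suToGU, h3, gact_mul, gact_mul, e3, h.cc, gact_add, gact_smul, e2, h.cb hF, mul_zero, zero_smul,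
        add_zero, gact_add, gact_smul, e1, h.ca hF, mul_zero, zero_smul, add_zero]; module
  have h4 := det_su hF g
  rw [k, det_mul', det_mul', d1, d2, d3] at h4
  exact h4

end

end Cfsg.Agent.BinInv
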