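import Cfsg.Agent.BinInv.Tools2

/-!
# Subgroups of `SU₃(q)` stabilising an anisotropic point do not have the extension property
-/

set_option autoImplicit false
set_option linter.unusedSectionVars false

namespace Cfsg.Agent.BinInv

open Cfsg Cfsg.Agent.Uni Cfsg.Agent.AutPSU Cfsg.Agent.H38.PSU3 Cfsg.Agent.PSU3Id.MG

variable {F : Type*} [Field F] [Fintype F] {q : ℕ}

section

variable (hF : Fintype.card F = q ^ 2)
include hF

theorem exists_fixed_ne (hq : 3 ≤ q) : ∃ c : F, c ^ q = c ∧ c ≠ 0 ∧ c ≠ 1 := by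
  classical
  by_contra hcon
  push Not at hcon
  have h1 : Nat.card {c : F // c ^ q = c} ≤ Nat.card Bool := by
    apply Nat.card_le_card_of_injective (fun c : {c : F // c ^ q = c} => decide (c.1 = 0))
    rintro ⟨c, hc⟩ ⟨d, hd⟩ h
    have h : decide (c = 0) = decide (d = 0) := h
    apply Subtype.ext
    by_cases h0 : c = 0
    · have hd0 : d = 0 := by
        rw [decide_eq_decide] at h
        exact h.1 h0
      show c = d
      rw [h0, hd0]
    · have hd0 : d ≠ 0 := by
        rw [decide_eq_decide] at h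
        exact fun e => h0 (h.2 e)
      show c = d
      rw [hcon c hc h0, hcon d hd hd0]
  rw [card_fixed hF, Nat.card_eq_fintype_card, Fintype.card_bool] at h1
  omega

theorem exists_two_norms (hq : 3 ≤ q) : ∃ α β : F, α ≠ 0 ∧ β ≠ 0 ∧ α ^ (q + 1) + β ^ (q + 1) = 1 := by
  obtain ⟨c, hc, hc0, hc1⟩ := exists_fixed_ne hF hq
  obtain ⟨α, hα⟩ := exists_norm_eq hF hc
  obtain ⟨β, hβ⟩ := exists_norm_eq hF (c := 1 - c) (by rw [sub_pow_q hF, hc, one_pow])
  refine ⟨α, β, ?_, ?_, by rw [hα, hβ]; ring⟩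
  · rintro rfl
    rw [zero_pow (by omega)] at hα
    exact hc0 hα.symm
  · rintro rfl
    rw [zero_pow (by omega)] at hβ
    exact hc1 (sub_eq_zero.1 hβ.symm).symm

theorem exists_norm_one_ne : ∃ ν : F, ν ^ (q + 1) = 1 ∧ ν ≠ 1 := by
  obtain ⟨c, hc, hc1⟩ := exists_norm_one_sq_ne hF
  refine ⟨c, hc, ?_⟩
  rintro rfl
  exact hc1 (by simp)

variable {A : Subgroup (SU 3 F q)} {z : Fin 3 → F}

theorem unit_case_one (hq : 3 ≤ q) (hz : hermForm 3 F q z z = 1)
    (h2 : ∀ g : SU 3 F q, act g z = z → g ∈ A) (h1 : ∀ g ∈ A, ∃ κ : F, act g z = κ • z) (hK : KP A)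
    {κ : F} (hκ : κ ^ (q + 1) = 1) (hκA : ¬ ∃ g ∈ A, act g z = κ • z) : False := by
  obtain ⟨e1, e2, hon⟩ := exists_on hF hz
  obtain ⟨α, β, hα, hβ, hαβ⟩ := exists_two_norms hF hq
  have hz0 : z ≠ 0 := by
    rintro rfl
    rw [hermForm_zero_left] at hz
    exact zero_ne_one hz
  obtain ⟨y, -, -, hy, -, -⟩ := hon.move hF (hon.smul hF hκ (one_pow (q + 1)) (one_pow (q + 1)))
  obtain ⟨g, hg, hgK⟩ := hK y
  -- the key property
  have key : ∀ v w : Fin 3 → F, On q z v w → ∃ (b : SU 3 F q) (l : F), b ∈ A ∧ act b z = l • z ∧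
      act g v = l • v := by
    intro v w hvw
    obtain ⟨k, -, -, hk1, hk2, -⟩ := hvw.move hF (hvw.smul hF hκ (one_pow (q + 1)) (one_pow (q + 1)))
    rw [one_smul] at hk2
    obtain ⟨a, ha⟩ := trans_unit hF hz hvw.bb
    have h3 : a⁻¹ * g * a ∈ A := by
      apply hgK a (y⁻¹ * k)
      · apply h2
        rw [act_mul, hk1, ← hy, act_inv_act]
      · apply h2
        rw [mul_inv_cancel_left, act_mul, act_mul, ha, hk2, ← ha, act_inv_act]
    obtain ⟨l, hl⟩ := h1 _ h3
    refine ⟨_, l, h3, hl, ?_⟩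
    rw [act_mul, act_mul, ha] at hl
    have := congrArg (act a) hl
    rw [act_act_inv, act_smul, ha] at this
    exact this
  -- the second vector
  have hβα : On q z (α • e1 + β • e2) (β ^ q • e1 - α ^ q • e2) := by
    have hNα : α * α ^ q = α ^ (q + 1) := (pow_succ' α q).symm
    have hNβ : β * β ^ q = β ^ (q + 1) := (pow_succ' β q).symm
    refine ⟨hz, ?_, ?_, ?_, ?_, ?_⟩
    · simp only [hermForm_add_left, hermForm_smul_left, hermForm_add_right hF, hermForm_smul_right, hon.bb,
        hon.cc, hon.bc, hon.cb hF]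
      linear_combination hαβ + hNα + hNβ
    · simp only [hermForm_sub_left, hermForm_smul_left, hermForm_sub_right hF, hermForm_smul_right, hon.bb,
        hon.cc, hon.bc, hon.cb hF, pow_q_pow_q hF]
      linear_combination hαβ + hNα + hNβ
    · simp only [hermForm_add_right hF, hermForm_smul_right, hon.ab, hon.ac]
      ring
    · simp only [hermForm_sub_right hF, hermForm_smul_right, hon.ab, hon.ac]
      ring
    · simp only [hermForm_add_left, hermForm_smul_left, hermForm_sub_right hF, hermForm_smul_right, hon.bb,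
        hon.cc, hon.bc, hon.cb hF, pow_q_pow_q hF]
      ring
  obtain ⟨b1, l1, hb1, hb1z, hl1⟩ := key _ _ hon
  obtain ⟨b2, l2, hb2, hb2z, hl2⟩ := key _ _ hβα
  -- the eigenvalues agree
  have hl1n := norm_of_act hF hon.bb hl1
  have hl10 : l1 ≠ 0 := by
    rintro rfl
    rw [zero_pow (by omega)] at hl1n
    exact zero_ne_one hl1n
  have hl12 : l2 = l1 := by
    have h3 := act_form g (α • e1 + β • e2) e1
    rw [hl2, hl1] at h3
    simp only [hermForm_add_left, hermForm_smul_left, hermForm_smul_right, hon.bb, hon.cb hF] at h3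
    have h4 : (l2 * l1 ^ q - 1) * α = 0 := by linear_combination h3
    have h5 : l2 * l1 ^ q = 1 := sub_eq_zero.1 ((mul_eq_zero.1 h4).resolve_right hα)
    have h6 : l1 * l1 ^ q = 1 := by rw [← pow_succ']; exact hl1n
    exact mul_right_cancel₀ (pow_ne_zero q hl10) (h5.trans h6.symm)
  have hge2 : act g e2 = l1 • e2 := by
    have h3 := hl2
    rw [act_add, act_smul, act_smul, hl1, hl12] at h3
    have h4 : β • act g e2 = β • (l1 • e2) := by
      have : β • act g e2 = (α • l1 • e1 + β • act g e2) - α • l1 • e1 := by abel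
      rw [this, h3]; module
    exact smul_right_injective _ hβ h4
  obtain ⟨l3, hl3⟩ := h1 _ hg
  have hgz : act g z = (κ * l3) • z := by
    have h3 : act g z = act y (act (y⁻¹ * g) z) := by rw [← act_mul, mul_inv_cancel_left]
    rw [h3, hl3, act_smul, hy, smul_smul, mul_comm]
  have hdet := hon.det hF hgz hl1 hge2
  apply hκA
  refine ⟨((y⁻¹ * g) * b1 * b1)⁻¹, A.inv_mem (A.mul_mem (A.mul_mem hg hb1) hb1), ?_⟩
  have h3 : act ((y⁻¹ * g) * b1 * b1) (κ • z) = z := by
    have e1 : act b1 (κ • z) = (κ * l1) • z := by rw [act_smul, hb1z, smul_smul]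
    have e2 : act b1 ((κ * l1) • z) = (κ * l1 * l1) • z := by rw [act_smul, hb1z, smul_smul]
    rw [act_mul, act_mul, e1, e2, act_smul, hl3, smul_smul]
    have : κ * l1 * l1 * l3 = 1 := by rw [← hdet]; ring
    rw [this, one_smul]
  calc act ((y⁻¹ * g) * b1 * b1)⁻¹ z = act ((y⁻¹ * g) * b1 * b1)⁻¹ (act ((y⁻¹ * g) * b1 * b1) (κ • z)) := by
        rw [h3]
    _ = κ • z := act_inv_act _ _

theorem unit_case_two [CharP F 2] (hz : hermForm 3 F q z z = 1)
    (h2 : ∀ g : SU 3 F q, (∃ κ : F, act g z = κ • z) → g ∈ A) (h1 : ∀ g ∈ A, ∃ κ : F, act g z = κ • z)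
    (hK : KP A) : False := by
  have htwo : (2 : F) = 0 := CharTwo.two_eq_zero
  obtain ⟨e1, e2, hon⟩ := exists_on hF hz
  obtain ⟨ν, hν, hν1⟩ := exists_norm_one_ne hF
  have hν0 : ν ≠ 0 := by
    rintro rfl
    rw [zero_pow (by omega)] at hν
    exact zero_ne_one hν
  have hνi : (ν⁻¹) ^ (q + 1) = 1 := by rw [inv_pow, hν, inv_one]
  -- the involution
  have hiso : hermForm 3 F q (z + e1) (z + e1) = 0 := by
    simp only [hermForm_add_left, hermForm_add_right hF, hz, hon.bb, hon.ab, hon.ba hF]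
    linear_combination htwo
  obtain ⟨t, -, ht⟩ := exists_transv hF (a := (1 : F)) hiso (by
    rw [one_pow]; linear_combination htwo)
  have htz : act t z = e1 := by
    rw [ht, hermForm_add_right hF, hz, hon.ab, add_zero, mul_one, one_smul]
    have : z + (z + e1) = (2 : F) • z + e1 := by module
    rw [this, htwo, zero_smul, zero_add]
  have hte1 : act t e1 = z := by
    rw [ht, hermForm_add_right hF, hon.bb, hon.ba hF, zero_add, mul_one, one_smul]
    have : e1 + (z + e1) = (2 : F) • e1 + z := by module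
    rw [this, htwo, zero_smul, zero_add]
  have hte2 : act t e2 = e2 := by
    rw [ht, hermForm_add_right hF, hon.ca hF, hon.cb hF]
    simp
  -- the diagonal element
  obtain ⟨k, δ, -, hkz, hk1, hk2⟩ := hon.move hF (hon.smul hF hνi hν (one_pow (q + 1)))
  rw [one_smul] at hk2
  have hδ : δ = 1 := by
    have := hon.det hF hkz hk1 hk2
    rwa [inv_mul_cancel₀ hν0, one_mul] at this
  rw [hδ, one_smul] at hk2
  have hkA : k ∈ A := h2 k ⟨_, hkz⟩
  obtain ⟨g, hg, hgK⟩ := hK t
  obtain ⟨c0, hc0⟩ := h1 _ hg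
  have hgz : act g z = c0 • e1 := by
    have h3 : act g z = act t (act (t⁻¹ * g) z) := by rw [← act_mul, mul_inv_cancel_left]
    rw [h3, hc0, act_smul, htz]
  -- the key property
  have key : ∀ (r : SU 3 F q), r ∈ A → ∀ w : Fin 3 → F, hermForm 3 F q w w = 1 → act (t * r) w = w →
      ∃ c : F, act g w = c • w := by
    intro r hr w hw htw
    obtain ⟨a, ha⟩ := trans_unit hF hz hw
    have h3 : a⁻¹ * g * a ∈ A := by
      apply hgK a r hr
      apply h2
      refine ⟨1, ?_⟩
      rw [act_mul, act_mul, ha, htw, ← ha, act_inv_act, one_smul]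
    obtain ⟨c, hc⟩ := h1 _ h3
    refine ⟨c, ?_⟩
    rw [act_mul, act_mul, ha] at hc
    have := congrArg (act a) hc
    rwa [act_act_inv, act_smul, ha] at this
  obtain ⟨c, hc⟩ := key 1 A.one_mem e2 hon.cc (by rw [mul_one]; exact hte2)
  have hcn := norm_of_act hF hon.cc hc
  have hc0' : c ^ q ≠ 0 := by
    intro h
    rw [pow_succ, h, zero_mul] at hcn
    exact zero_ne_one hcn
  have key2 : ∀ x : Fin 3 → F, (∃ r ∈ A, act (t * r) (e2 + x) = e2 + x) → hermForm 3 F q x x = 0 →
      hermForm 3 F q x e2 = 0 → act g x = c • x := by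
    rintro x ⟨r, hr, hrx⟩ hxx hxe
    obtain ⟨d, hd⟩ := key r hr (e2 + x) (by
      simp only [hermForm_add_left, hermForm_add_right hF, hon.cc, hxx, hxe, (hermForm_eq_zero_comm hF).1 hxe]
      ring) hrx
    rw [act_add, hc] at hd
    have h3 : act g x = (d - c) • e2 + d • x := by
      have : act g x = (c • e2 + act g x) - c • e2 := by abel
      rw [this, hd]; module
    have h4 := act_form g x e2
    rw [h3, hc, hxe, hermForm_add_left, hermForm_smul_left, hermForm_smul_left, hermForm_smul_right,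
      hermForm_smul_right, hon.cc, hxe] at h4
    have h5 : (d - c) * c ^ q = 0 := by linear_combination h4
    have h6 : d = c := sub_eq_zero.1 ((mul_eq_zero.1 h5).resolve_right hc0')
    rw [h3, h6, sub_self, zero_smul, zero_add]
  have f1 := key2 (z + e1) ⟨1, A.one_mem, by
    rw [mul_one, act_add, act_add, hte2, htz, hte1]; abel⟩ hiso (by
    rw [hermForm_add_left, hon.ac, hon.bc, add_zero])
  have f2 := key2 (z + ν⁻¹ • e1) ⟨k, hkA, by
    have e1 : act k (e2 + (z + ν⁻¹ • e1)) = e2 + (ν⁻¹ • z + e1) := by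
      rw [act_add, act_add, act_smul, hkz, hk1, hk2, smul_smul, inv_mul_cancel₀ hν0, one_smul]
    rw [act_mul, e1, act_add, act_add, act_smul, hte2, htz, hte1]; abel⟩ (by
    have h3 : ν⁻¹ * (ν⁻¹) ^ q = 1 := by rw [← pow_succ']; exact hνi
    simp only [hermForm_add_left, hermForm_add_right hF, hermForm_smul_left, hermForm_smul_right, hz, hon.bb,
      hon.ab, hon.ba hF]
    linear_combination htwo + h3) (by
    rw [hermForm_add_left, hermForm_smul_left, hon.ac, hon.bc, mul_zero, add_zero])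
  have hge1 : act g e1 = c • e1 := by
    have h3 : (1 - ν⁻¹) • act g e1 = (1 - ν⁻¹) • (c • e1) := by
      calc (1 - ν⁻¹) • act g e1 = act g (z + e1) - act g (z + ν⁻¹ • e1) := by
            rw [act_add, act_add, act_smul]; module
        _ = _ := by rw [f1, f2]; module
    refine smul_right_injective _ (sub_ne_zero.2 ?_) h3
    intro h
    exact hν1 (inv_eq_one.1 h.symm)
  have h7 : act g z = c • z := by
    have : act g z = act g (z + e1) - act g e1 := by rw [act_add]; abel
    rw [this, f1, hge1]; module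
  rw [hgz] at h7
  have h8 : hermForm 3 F q (c0 • e1) e1 = hermForm 3 F q (c • z) e1 := by rw [h7]
  rw [hermForm_smul_left, hermForm_smul_left, hon.bb, hon.ab, mul_one, mul_zero] at h8
  have h9 := act_form g z z
  rw [hgz, h8, zero_smul, hermForm_zero_left, hz] at h9
  exact zero_ne_one h9

theorem unit_case [CharP F 2] (hq : 3 ≤ q) (hz : hermForm 3 F q z z = 1)
    (h2 : ∀ g : SU 3 F q, act g z = z → g ∈ A) (h1 : ∀ g ∈ A, ∃ κ : F, act g z = κ • z) (hK : KP A) : False := by
  by_cases hall : ∀ κ : F, κ ^ (q + 1) = 1 → ∃ g ∈ A, act g z = κ • z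
  · refine unit_case_two hF hz ?_ h1 hK
    rintro g ⟨κ, hκ⟩
    obtain ⟨g', hg', hg'z⟩ := hall κ (norm_of_act hF hz hκ)
    have h3 : g'⁻¹ * g ∈ A := by
      apply h2
      rw [act_mul, hκ, ← hg'z, act_inv_act]
    have := A.mul_mem hg' h3
    rwa [mul_inv_cancel_left] at this
  · push Not at hall
    obtain ⟨κ, hκ, hκA⟩ := hall
    exact unit_case_one hF hq hz h2 h1 hK hκ (fun ⟨g, hg, hgz⟩ => hκA g hg hgz)

end

end Cfsg.Agent.BinInv
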